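import Cfsg.Agent.TIThree.Embed

/-!
# Eigenbases for involutive automizers of a subgroup of order nine
-/

set_option autoImplicit false

namespace CfsgLib.TIThree

open Subgroup

universe u

variable {G : Type u} [Group G] [Finite G]

theorem pair_fixed : ∀ v : Fin 3 × Fin 3, (v.1, -v.2) = v → v = (v.1, 0) := by decide +kernel

theorem pair_inverted : ∀ v : Fin 3 × Fin 3, (v.1, -v.2) = -v → v = (0, v.2) := by decide +kernel

theorem axis_fst : ∀ v : Fin 3 × Fin 3, v.2 = 0 → v ≠ 0 → IsAxis v := by decide +kernel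

theorem axis_snd : ∀ v : Fin 3 × Fin 3, v.1 = 0 → v ≠ 0 → IsAxis v := by decide +kernel

/-- An involutive automorphism which is neither trivial nor inverting has an eigenbasis. -/
theorem exists_eigenbasis (T : Subgroup G) (hcard : Nat.card T = 9)
    (hcube : ∀ t ∈ T, t ^ 3 = 1) (hcomm : ∀ s ∈ T, ∀ t ∈ T, s * t = t * s)
    {n : G} (hn : ∀ t ∈ T, n * t * n⁻¹ ∈ T) (hinv : ∀ t ∈ T, n * (n * t * n⁻¹) * n⁻¹ = t)
    (hid : ∃ t ∈ T, n * t * n⁻¹ ≠ t) (hminus : ∃ t ∈ T, n * t * n⁻¹ ≠ t⁻¹) :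
    ∃ B : Basis9 T, n * B.a * n⁻¹ = B.a ∧ n * B.b * n⁻¹ = B.b⁻¹ ∧
      (∀ t ∈ T, t ≠ 1 → n * t * n⁻¹ = t → ∃ u, IsAxis u ∧ u.2 = 0 ∧ t = B.pt u) ∧
      (∀ t ∈ T, t ≠ 1 → n * t * n⁻¹ = t⁻¹ → ∃ u, IsAxis u ∧ u.1 = 0 ∧ t = B.pt u) := by
  have hsq : ∀ x ∈ T, x * x = 1 → x = 1 := by
    intro x hx h
    have := hcube x hx
    rwa [pow_succ, pow_two, h, one_mul] at this
  obtain ⟨t, ht, htne⟩ := hid
  obtain ⟨s, hs, hsne⟩ := hminus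
  have ha : s * (n * s * n⁻¹) ∈ T := mul_mem hs (hn s hs)
  have hfa : n * (s * (n * s * n⁻¹)) * n⁻¹ = s * (n * s * n⁻¹) := by
    calc n * (s * (n * s * n⁻¹)) * n⁻¹ = n * s * n⁻¹ * (n * (n * s * n⁻¹) * n⁻¹) := by group
    _ = n * s * n⁻¹ * s := by rw [hinv s hs]
    _ = s * (n * s * n⁻¹) := hcomm _ (hn s hs) s hs
  have ha1 : s * (n * s * n⁻¹) ≠ 1 := fun e => hsne (eq_inv_of_mul_eq_one_right e)
  have hb : t * (n * t * n⁻¹)⁻¹ ∈ T := mul_mem ht (inv_mem (hn t ht))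
  have hfb : n * (t * (n * t * n⁻¹)⁻¹) * n⁻¹ = (t * (n * t * n⁻¹)⁻¹)⁻¹ := by
    calc n * (t * (n * t * n⁻¹)⁻¹) * n⁻¹
        = n * t * n⁻¹ * (n * (n * t * n⁻¹) * n⁻¹)⁻¹ := by group
    _ = n * t * n⁻¹ * t⁻¹ := by rw [hinv t ht]
    _ = (t * (n * t * n⁻¹)⁻¹)⁻¹ := by group
  have hb1 : t * (n * t * n⁻¹)⁻¹ ≠ 1 := fun e => htne (mul_inv_eq_one.mp e).symm
  set a := s * (n * s * n⁻¹) with hadef
  set b := t * (n * t * n⁻¹)⁻¹ with hbdef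
  clear_value a b
  have hnot : b ∉ Subgroup.zpowers a := by
    intro h
    obtain ⟨i, rfl⟩ := Subgroup.mem_zpowers_iff.mp h
    rw [← conj_zpow, hfa] at hfb
    exact hb1 (hsq _ hb (mul_eq_one_iff_eq_inv.mpr hfb))
  let B : Basis9 T := ⟨a, b, ha, hb, ha1, hnot, hcard, hcube, hcomm⟩
  have hpt : ∀ v : Fin 3 × Fin 3, n * B.pt v * n⁻¹ = B.pt (v.1, -v.2) := by
    intro v
    have h2 : B.pt (v.1, -v.2) = a ^ (v.1 : ℕ) * (b ^ (v.2 : ℕ))⁻¹ := by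
      rw [show ((v.1, -v.2) : Fin 3 × Fin 3) = (v.1, 0) + -(0, v.2) by simp, B.pt_add, B.pt_neg]
      simp [Basis9.pt, B]
    rw [h2, Basis9.pt, ← inv_pow]
    show n * (a ^ (v.1 : ℕ) * b ^ (v.2 : ℕ)) * n⁻¹ = _
    conv_rhs => rw [← hfa, ← hfb]
    rw [conj_pow, conj_pow]
    group
  have hne0 : ∀ v, B.pt v ≠ 1 → v ≠ 0 := fun v hv e => hv (by rw [e, B.pt_zero])
  refine ⟨B, hfa, hfb, ?_, ?_⟩
  · intro x hx hx1 h
    obtain ⟨v, rfl⟩ := B.exists_pt hx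
    have := pair_fixed v (B.pt_injective ((hpt v).symm.trans h))
    rw [this] at hx1 ⊢
    exact ⟨_, axis_fst _ rfl (hne0 _ hx1), rfl, rfl⟩
  · intro x hx hx1 h
    obtain ⟨v, rfl⟩ := B.exists_pt hx
    have := pair_inverted v (B.pt_injective ((hpt v).symm.trans (h.trans (B.pt_neg v).symm)))
    rw [this] at hx1 ⊢
    exact ⟨_, axis_snd _ rfl (hne0 _ hx1), rfl, rfl⟩

end CfsgLib.TIThree
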