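import Cfsg.Agent.TIThree.Family

/-!
# The numerical data of a decomposition
-/

set_option autoImplicit false

namespace CfsgLib.TIThree

open scoped ComplexConjugate
open Cfsg CfsgLib.Chars Rows

universe u

/-- The data of one constituent: column and signed degree. -/
structure Col where
  /-- the column -/
  c : List ℤ
  /-- the signed degree -/
  y : ℤ

namespace Decomp

variable {G : Type u} [Group G] [Fintype G] {K : Type} [Group K] [Fintype K] [DecidableEq K]
  {S : Setting K G} {F : Fam K} {st : List (List ℤ)} (D : Decomp S F st)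

/-- The columns and signed degrees of all constituents. -/
noncomputable def cols : List Col :=
  D.all.map fun p => ⟨column (S := S) (F := F) p, ydeg p⟩

theorem cols_map_c : D.cols.map Col.c = st := by
  rw [cols, List.map_map]
  exact D.map_column

theorem cols_head (p : Col) (hp : D.cols.head? = some p) : p.y = 1 := by
  rw [cols, all, List.map_cons, List.head?_cons, Option.some.injEq] at hp
  subst hp
  rw [ydeg, one_mul, charDegree_eq_of_map_one (n := 1) (by rw [oneChar_apply, Nat.cast_one])]
  rfl

theorem cols_ne_zero (p : Col) (hp : p ∈ D.cols) : p.y ≠ 0 := by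
  obtain ⟨q, hq, rfl⟩ := List.mem_map.mp hp
  exact D.ydeg_ne_zero hq

theorem mem_cols {p : Col} (hp : p ∈ D.cols) :
    ∃ q ∈ D.all, column (S := S) (F := F) q = p.c ∧ ydeg q = p.y := by
  obtain ⟨q, hq, rfl⟩ := List.mem_map.mp hp
  exact ⟨q, hq, rfl, rfl⟩

theorem cols_relation {i : ℕ} (hi : i < F.vs.length) :
    (D.cols.map fun p => p.c.getD i 0 * p.y).sum = 0 := by
  have h := D.relation (one_pow 4 : (1 : G) ^ 4 = 1) hi
  simp only [sc_one, ← Int.cast_mul] at h
  rw [← Int.cast_inj (α := ℂ), Int.cast_zero, ← h, cols, List.map_map,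
    Int.cast_list_sum, List.map_map]
  rfl

/-- A sum over the constituents of values at three-singular elements is rational. -/
theorem cols_triple {a b c : K} {A B C : List ℤ} (hA : IsValuation F a 1 A)
    (hB : IsValuation F b 1 B) (hC : IsValuation F c 1 C) :
    ∑ χ : IrrCharacter G, (χ : G → ℂ) (S.φ a) * (χ : G → ℂ) (S.φ b) *
        conj ((χ : G → ℂ) (S.φ c)) / (χ : G → ℂ) 1 =
      (((D.cols.map fun p => ((dot A p.c * dot B p.c * dot C p.c : ℤ) : ℚ) / p.y).sum : ℚ) : ℂ) := by
  rw [D.triple_sum _ _ hC, cols, List.map_map, ← Rat.coe_castHom, map_list_sum, List.map_map]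
  refine congrArg List.sum (List.map_congr_left fun p _ => ?_)
  have va := value (S := S) hA (p := p)
  have vb := value (S := S) hB (p := p)
  have vc := value (S := S) hC (p := p)
  rw [Int.cast_one, one_mul] at va vb vc
  simp only [Function.comp, Rat.coe_castHom, va, vb, vc, sc_one]
  push_cast
  rfl

end Decomp

end CfsgLib.TIThree
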