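import Cfsg.Agent.TIThree.PlusMinus
import Cfsg.Agent.TIThree.Columns

/-!
# A Klein automizer acting by the diagonal signs
-/

set_option autoImplicit false

namespace CfsgLib.TIThree

open Cfsg CfsgLib.Chars Rows Decomp

universe u

namespace Klein

/-- `1 + ε - ρ` on the first factor. -/
def thA (x : El.klein) : ℤ :=
  1 + El.fixCount (fun y : El.klein => El.act2p (y : El)) x -
    El.fixCount (fun y : El.klein => El.act3a (y : El)) x

/-- `1 + ε - ρ` on the second factor. -/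
def thB (x : El.klein) : ℤ :=
  1 + El.fixCount (fun y : El.klein => El.act2q (y : El)) x -
    El.fixCount (fun y : El.klein => El.act3b (y : El)) x

/-- The sign of the first factor. -/
def sgA (x : El.klein) : ℤ := El.fixCount (fun y : El.klein => El.act2p (y : El)) x - 1

/-- The sign of the second factor. -/
def sgB (x : El.klein) : ℤ := El.fixCount (fun y : El.klein => El.act2q (y : El)) x - 1

/-- The degree two character of the second factor. -/
def rhB (x : El.klein) : ℤ := El.fixCount (fun y : El.klein => El.act3b (y : El)) x - 1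

theorem act2p_one : ∀ v, El.act2p ((1 : El.klein) : El) v = v := by decide +kernel
theorem act2q_one : ∀ v, El.act2q ((1 : El.klein) : El) v = v := by decide +kernel
theorem act3a_one : ∀ v, El.act3a ((1 : El.klein) : El) v = v := by decide +kernel
theorem act3b_one : ∀ v, El.act3b ((1 : El.klein) : El) v = v := by decide +kernel

theorem act2p_mul : ∀ x y : El.klein, ∀ v,
    El.act2p ((x * y : El.klein) : El) v = El.act2p (x : El) (El.act2p (y : El) v) := by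
  decide +kernel
theorem act2q_mul : ∀ x y : El.klein, ∀ v,
    El.act2q ((x * y : El.klein) : El) v = El.act2q (x : El) (El.act2q (y : El) v) := by
  decide +kernel
theorem act3a_mul : ∀ x y : El.klein, ∀ v,
    El.act3a ((x * y : El.klein) : El) v = El.act3a (x : El) (El.act3a (y : El) v) := by
  decide +kernel
theorem act3b_mul : ∀ x y : El.klein, ∀ v,
    El.act3b ((x * y : El.klein) : El) v = El.act3b (x : El) (El.act3b (y : El) v) := by
  decide +kernel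

theorem gen_thA : IsIntGen El.klein thA :=
  (IsIntGen.one.add (IsIntGen.fixCount (fun y : El.klein => El.act2p (y : El)) act2p_one act2p_mul)).sub
    (IsIntGen.fixCount (fun y : El.klein => El.act3a (y : El)) act3a_one act3a_mul)

theorem gen_thB : IsIntGen El.klein thB :=
  (IsIntGen.one.add (IsIntGen.fixCount (fun y : El.klein => El.act2q (y : El)) act2q_one act2q_mul)).sub
    (IsIntGen.fixCount (fun y : El.klein => El.act3b (y : El)) act3b_one act3b_mul)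

theorem gen_sgA : IsIntGen El.klein sgA :=
  (IsIntGen.fixCount (fun y : El.klein => El.act2p (y : El)) act2p_one act2p_mul).sub IsIntGen.one

theorem gen_sgB : IsIntGen El.klein sgB :=
  (IsIntGen.fixCount (fun y : El.klein => El.act2q (y : El)) act2q_one act2q_mul).sub IsIntGen.one

theorem gen_rhB : IsIntGen El.klein rhB :=
  (IsIntGen.fixCount (fun y : El.klein => El.act3b (y : El)) act3b_one act3b_mul).sub IsIntGen.one

/-- The five vectors. -/
def vec : Fin 5 → El.klein → ℤ :=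
  ![thA, thB, fun x => thA x * sgB x, fun x => sgA x * thB x, fun x => thA x * rhB x]

theorem gen_vec : ∀ i, IsIntGen El.klein (vec i) := by
  intro i
  fin_cases i
  exacts [gen_thA, gen_thB, gen_thA.mul gen_sgB, gen_sgA.mul gen_thB, gen_thA.mul gen_rhB]

theorem vec_sing : ∀ i, ∀ k : El.klein, k ^ 4 = 1 → vec i k = 0 := by decide +kernel

theorem vec_cls : ∀ i, ∀ k h : El.klein, vec i (h * k * h⁻¹) = vec i k := by decide +kernel

/-- The vectors as a list. -/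
def vecs : List (El.klein → ℤ) := [vec 0, vec 1, vec 2, vec 3, vec 4]

theorem mem_vecs {v : El.klein → ℤ} (h : v ∈ vecs) : ∃ i, v = vec i := by
  simp only [vecs, List.mem_cons, List.not_mem_nil, or_false] at h
  rcases h with rfl | rfl | rfl | rfl | rfl
  exacts [⟨0, rfl⟩, ⟨1, rfl⟩, ⟨2, rfl⟩, ⟨3, rfl⟩, ⟨4, rfl⟩]

/-- Their invariants. -/
def specs : List Spec :=
  [⟨1, 3, []⟩, ⟨1, 3, [1]⟩, ⟨0, 3, [0, 1]⟩, ⟨0, 3, [1, 0, 1]⟩, ⟨0, 3, [0, -1, 0, -1]⟩]

/-- The family. -/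
def fam : Fam El.klein where
  vs := vecs
  specs := specs
  gen := fun v hv => by
    obtain ⟨i, rfl⟩ := mem_vecs hv
    exact gen_vec i
  sing := fun v hv => by
    obtain ⟨i, rfl⟩ := mem_vecs hv
    exact vec_sing i
  cls := fun v hv => by
    obtain ⟨i, rfl⟩ := mem_vecs hv
    exact vec_cls i
  ok := by decide +kernel

theorem enum_eq : enum specs =
    [[[1, 1, 0, 0, 0], [0, 1, 1, 0, -1], [0, 0, 0, 1, -1], [1, 0, 0, 0, 0], [0, 1, 0, 0, 0],
        [1, 0, 0, 1, 0], [0, 0, 1, 1, 0], [0, 0, 1, 0, 1]],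
      [[1, 1, 0, 0, 0], [0, 1, 0, 0, -1], [0, 0, 0, 1, -1], [1, 0, 0, 0, 0], [0, 0, 1, 0, 0],
        [0, 1, 1, 0, 0], [1, 0, 0, 1, 0], [0, 0, 1, 1, 0], [0, 0, 0, 0, 1]],
      [[1, 1, 0, 0, 0], [0, 1, 0, 0, -1], [0, 0, 1, 1, -1], [1, 0, 0, 0, 0], [0, 1, 1, 0, 0],
        [0, 0, 0, 1, 0], [1, 0, 0, 1, 0], [0, 0, 1, 0, 1]],
      [[1, 1, 0, 0, 0], [0, 1, 0, 0, -1], [1, 0, 0, 1, -1], [0, 0, 1, 0, 0], [0, 1, 1, 0, 0],
        [0, 0, 0, 1, 0], [0, 0, 1, 1, 0], [1, 0, 0, 0, 1]],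
      [[1, 1, 0, 0, 0], [0, 1, 1, 1, -1], [0, 1, 0, -1, 0], [1, 0, 0, 0, 0], [0, 0, 1, 0, 0],
        [1, 0, 0, 1, 0], [0, 0, 0, 0, 1], [0, 0, 1, 0, 1]],
      [[1, 1, 0, 0, 0], [0, 1, 0, 0, -1], [0, 0, 0, 1, -1], [1, 0, -1, 0, 0], [0, 1, 1, 0, 0],
        [0, 0, 0, 1, 0], [1, 0, 1, 1, 0], [0, 0, 0, 0, 1]]] := by
  decide +kernel

/-- A translation of the first factor. -/
def tu : El.klein := ⟨⟨1, 0, false, false, false⟩, rfl⟩

/-- A translation of the second factor. -/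
def tv : El.klein := ⟨⟨0, 1, false, false, false⟩, rfl⟩

/-- A diagonal translation. -/
def tw : El.klein := ⟨⟨1, 1, false, false, false⟩, rfl⟩

/-- A translation times the second sign. -/
def xrs : El.klein := ⟨⟨1, 0, false, true, false⟩, rfl⟩

/-- A translation times the first sign. -/
def xsr : El.klein := ⟨⟨0, 1, true, false, false⟩, rfl⟩

theorem isVal_tu : IsValuation fam tu 1 [1, 0, 1, 0, 2] := ⟨rfl, one_ne_zero, by decide +kernel⟩
theorem isVal_tv : IsValuation fam tv 1 [-2, 3, -2, 3, 2] := ⟨rfl, one_ne_zero, by decide +kernel⟩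
theorem isVal_tw : IsValuation fam tw 1 [1, 0, 1, 0, -1] := ⟨rfl, one_ne_zero, by decide +kernel⟩
theorem isVal_xrs : IsValuation fam xrs 1 [1, 0, -1, 0, 0] := ⟨rfl, one_ne_zero, by decide +kernel⟩
theorem isVal_xsr : IsValuation fam xsr 1 [0, 1, 0, -1, 0] := ⟨rfl, one_ne_zero, by decide +kernel⟩

/-- The value of a column at the three translations. -/
def valu (c : List ℤ) : ℤ := dot [1, 0, 1, 0, 2] c
/-- The value at the second translation. -/
def valv (c : List ℤ) : ℤ := dot [-2, 3, -2, 3, 2] c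
/-- The value at the diagonal translation. -/
def valw (c : List ℤ) : ℤ := dot [1, 0, 1, 0, -1] c

/-- The four count equations and the degree relations for a list of columns. -/
def Eqs (L : List Col) : Prop :=
  (∀ p ∈ L, p.y ≠ 0) ∧
    (∀ i, i < 5 → (L.map fun p => p.c.getD i 0 * p.y).sum = 0) ∧
    (L.map fun p => ((valu p.c * valu p.c * valv p.c : ℤ) : ℚ) / p.y).sum = 0 ∧
    (L.map fun p => ((valu p.c * valv p.c * valv p.c : ℤ) : ℚ) / p.y).sum = 0 ∧
    (L.map fun p => ((valu p.c * valu p.c * valw p.c : ℤ) : ℚ) / p.y).sum = 0 ∧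
    (L.map fun p => ((valv p.c * valv p.c * valw p.c : ℤ) : ℚ) / p.y).sum = 0

theorem inv_inj {a b : ℤ} (h : (6 : ℚ) / a - 6 / b = 0) : a = b := by
  by_contra hne
  rcases eq_or_ne a 0 with rfl | ha
  · simp at h; exact hne h.symm
  rcases eq_or_ne b 0 with rfl | hb
  · simp at h; exact hne h
  have ha' : (a : ℚ) ≠ 0 := Int.cast_ne_zero.mpr ha
  have hb' : (b : ℚ) ≠ 0 := Int.cast_ne_zero.mpr hb
  field_simp at h
  refine hne (Int.cast_injective (α := ℚ) ?_)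
  linarith

/-- Every solution has a linear constituent with kernel between. -/
theorem exists_linear (st : List (List ℤ)) (hst : st ∈ enum specs) (L : List Col)
    (hc : L.map Col.c = st) (h1 : ∀ p, L.head? = some p → p.y = 1) (hL : Eqs L) :
    ∃ p ∈ L, p.c = [0, 0, 1, 1, 0] ∧ p.y = 1 := by
  obtain ⟨hne, hrel, h2, h3, h4, h5⟩ := hL
  have r0 := hrel 0 (by norm_num)
  have r1 := hrel 1 (by norm_num)
  have r2 := hrel 2 (by norm_num)
  have r3 := hrel 3 (by norm_num)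
  have r4 := hrel 4 (by norm_num)
  rw [enum_eq] at hst
  simp only [List.mem_cons, List.not_mem_nil, or_false] at hst
  rcases hst with rfl | rfl | rfl | rfl | rfl | rfl <;>
    simp only [List.map_eq_cons_iff, List.map_eq_nil_iff] at hc <;>
    obtain ⟨⟨c, y⟩, L, rfl, rfl, hc⟩ := hc <;>
    have hy : y = 1 := h1 _ rfl <;>
    subst hy
  · -- first state
    obtain ⟨⟨_, y0⟩, L, rfl, rfl, ⟨_, y1⟩, L, rfl, rfl, ⟨_, y2⟩, L, rfl, rfl, ⟨_, y3⟩, L, rfl, rfl,
      ⟨_, y4⟩, L, rfl, rfl, ⟨_, y5⟩, L, rfl, rfl, ⟨_, y6⟩, L, rfl, rfl, rfl⟩ := hc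
    simp [valu, valv, valw, dot] at h2 h3 r0 r1 r2 r3 r4
    refine ⟨⟨_, y5⟩, by simp, rfl, ?_⟩
    have e : y1 = y2 := inv_inj (by linear_combination h2 - h3)
    show y5 = 1
    omega
  · -- second state
    obtain ⟨⟨_, y0⟩, L, rfl, rfl, ⟨_, y1⟩, L, rfl, rfl, ⟨_, y2⟩, L, rfl, rfl, ⟨_, y3⟩, L, rfl, rfl,
      ⟨_, y4⟩, L, rfl, rfl, ⟨_, y5⟩, L, rfl, rfl, ⟨_, y6⟩, L, rfl, rfl, ⟨_, y7⟩, L, rfl, rfl,
      rfl⟩ := hc
    simp only [List.mem_cons, List.not_mem_nil, or_false] at hne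
    simp [valu, valv, valw, dot] at h2 h3 h4 h5 r0 r1 r2 r3 r4
    have n0 : (y0 : ℚ) ≠ 0 := Int.cast_ne_zero.mpr (hne ⟨[0, 1, 0, 0, -1], y0⟩ (by simp))
    have n1 : (y1 : ℚ) ≠ 0 := Int.cast_ne_zero.mpr (hne ⟨[0, 0, 0, 1, -1], y1⟩ (by simp))
    have n2 : (y2 : ℚ) ≠ 0 := Int.cast_ne_zero.mpr (hne ⟨[1, 0, 0, 0, 0], y2⟩ (by simp))
    have n3 : (y3 : ℚ) ≠ 0 := Int.cast_ne_zero.mpr (hne ⟨[0, 0, 1, 0, 0], y3⟩ (by simp))
    have n7 : (y7 : ℚ) ≠ 0 := Int.cast_ne_zero.mpr (hne ⟨[0, 0, 0, 0, 1], y7⟩ (by simp))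
    have e7 : (y7 : ℚ) = (y0 : ℚ) + (y1 : ℚ) := by
      have : y7 = y0 + y1 := by omega
      exact_mod_cast this
    have a1 : 3 / (y0 : ℚ) + 3 / (y1 : ℚ) - 12 / (y7 : ℚ) = 0 := by linear_combination h5 - h3
    have a2 : 3 / (y2 : ℚ) + 3 / (y3 : ℚ) - 12 / (y7 : ℚ) = 0 := by linear_combination h4 - h2
    have e01 : y0 = y1 := by
      field_simp at a1
      rw [e7] at a1
      have : ((y0 : ℚ) - y1) * ((y0 : ℚ) - y1) = 0 := by linear_combination (1 / 3 : ℚ) * a1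
      exact_mod_cast sub_eq_zero.mp (mul_self_eq_zero.mp this)
    have e23 : y2 + y3 = 2 * y0 := by omega
    have e23' : (y2 : ℚ) + y3 = 2 * y0 := by exact_mod_cast e23
    have e2 : y2 = y3 := by
      rw [e7, show (y1 : ℚ) = y0 by exact_mod_cast e01.symm] at a2
      field_simp at a2
      have : ((y2 : ℚ) - y3) * ((y2 : ℚ) - y3) = 0 := by
        linear_combination ((y2 : ℚ) + y3) * e23' + (1 / 3 : ℚ) * a2
      exact_mod_cast sub_eq_zero.mp (mul_self_eq_zero.mp this)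
    refine ⟨⟨_, y6⟩, by simp, rfl, ?_⟩
    show y6 = 1
    omega
  · -- third state
    obtain ⟨⟨_, y0⟩, L, rfl, rfl, ⟨_, y1⟩, L, rfl, rfl, ⟨_, y2⟩, L, rfl, rfl, ⟨_, y3⟩, L, rfl, rfl,
      ⟨_, y4⟩, L, rfl, rfl, ⟨_, y5⟩, L, rfl, rfl, ⟨_, y6⟩, L, rfl, rfl, rfl⟩ := hc
    simp [valu, valv, valw, dot] at h2 h3 r0 r1 r2 r3 r4
    have e : y0 = y2 := inv_inj (by linear_combination h2 - h3)
    omega
  · -- fourth state
    obtain ⟨⟨_, y0⟩, L, rfl, rfl, ⟨_, y1⟩, L, rfl, rfl, ⟨_, y2⟩, L, rfl, rfl, ⟨_, y3⟩, L, rfl, rfl,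
      ⟨_, y4⟩, L, rfl, rfl, ⟨_, y5⟩, L, rfl, rfl, ⟨_, y6⟩, L, rfl, rfl, rfl⟩ := hc
    simp [valu, valv, valw, dot] at h2 h3 r0 r1 r2 r3 r4
    refine ⟨⟨_, y5⟩, by simp, rfl, ?_⟩
    have e : y0 = y2 := inv_inj (by linear_combination h2 - h3)
    show y5 = 1
    omega
  · -- fifth state
    obtain ⟨⟨_, y0⟩, L, rfl, rfl, ⟨_, y1⟩, L, rfl, rfl, ⟨_, y2⟩, L, rfl, rfl, ⟨_, y3⟩, L, rfl, rfl,
      ⟨_, y4⟩, L, rfl, rfl, ⟨_, y5⟩, L, rfl, rfl, ⟨_, y6⟩, L, rfl, rfl, rfl⟩ := hc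
    have n0 : y0 ≠ 0 := hne ⟨[0, 1, 1, 1, -1], y0⟩ (by simp)
    simp [valu, valv, valw, dot] at h2 h3 h4 h5
    have : (1 : ℚ) / (y0 : ℚ) = 0 := by
      linear_combination (1 / 18 : ℚ) * (h2 - h3) + (-1 / 9 : ℚ) * (h5 - h4) * -1
    exact absurd this (div_ne_zero one_ne_zero (Int.cast_ne_zero.mpr n0))
  · -- sixth state
    obtain ⟨⟨_, y0⟩, L, rfl, rfl, ⟨_, y1⟩, L, rfl, rfl, ⟨_, y2⟩, L, rfl, rfl, ⟨_, y3⟩, L, rfl, rfl,
      ⟨_, y4⟩, L, rfl, rfl, ⟨_, y5⟩, L, rfl, rfl, ⟨_, y6⟩, L, rfl, rfl, rfl⟩ := hc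
    have n5 : y5 ≠ 0 := hne ⟨[1, 0, 1, 1, 0], y5⟩ (by simp)
    simp [valu, valv, valw, dot] at h2 h3 h4 h5
    have : (1 : ℚ) / (y5 : ℚ) = 0 := by
      linear_combination (1 / 9 : ℚ) * (h4 - h5) + (-1 / 18 : ℚ) * (h2 - h3)
    exact absurd this (div_ne_zero one_ne_zero (Int.cast_ne_zero.mpr n5))

theorem tu_cube : tu ^ 3 = 1 := by decide +kernel
theorem tv_cube : tv ^ 3 = 1 := by decide +kernel
theorem tw_cube : tw ^ 3 = 1 := by decide +kernel
theorem tu_ne : tu ≠ 1 := by decide +kernel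
theorem tv_ne : tv ≠ 1 := by decide +kernel
theorem tw_ne : tw ≠ 1 := by decide +kernel

theorem count_uuv : triCount tu tu tv = 0 := by decide +kernel
theorem count_uvv : triCount tu tv tv = 0 := by decide +kernel
theorem count_uuw : triCount tu tu tw = 0 := by decide +kernel
theorem count_vvw : triCount tv tv tw = 0 := by decide +kernel

theorem not_conj_uv : ¬ IsConj tu tv := by
  intro h
  obtain ⟨c, hc⟩ := isConj_iff.mp h
  revert hc
  revert c
  decide +kernel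

theorem not_conj_inv_uv : ¬ IsConj tu⁻¹ tv := by
  intro h
  obtain ⟨c, hc⟩ := isConj_iff.mp h
  revert hc
  revert c
  decide +kernel

theorem not_conj_inv_uw : ¬ IsConj tu⁻¹ tw := by
  intro h
  obtain ⟨c, hc⟩ := isConj_iff.mp h
  revert hc
  revert c
  decide +kernel

theorem not_conj_inv_vw : ¬ IsConj tv⁻¹ tw := by
  intro h
  obtain ⟨c, hc⟩ := isConj_iff.mp h
  revert hc
  revert c
  decide +kernel

theorem gen_trans : ∀ x : El.klein, x ^ 3 = 1 → ∃ i j : Fin 3, x = tu ^ (i : ℕ) * tv ^ (j : ℕ) := by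
  decide +kernel

theorem split : ∀ k : El.klein, ∃ t : El.klein, t ^ 3 = 1 ∧
    (((k : El) ∈ El.pm ∧ (k = t ∨ k = xrs * xsr * t)) ∨
      ((k : El) ∉ El.pm ∧ (k = xrs * t ∨ k = xsr * t))) := by decide +kernel

theorem pm_le : El.pm ≤ El.klein := fun _ hx => hx.2

theorem cube_mem_pm : ∀ x : El.klein, x ^ 3 = 1 → (x : El) ∈ El.pm := by decide +kernel

/-- A normalizer with Klein automizer is the whole group. -/
theorem range_eq_top {G : Type u} [Group G] [Finite G] (S : Setting El.klein G) :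
    S.φ.range = ⊤ := by
  classical
  haveI := Fintype.ofFinite G
  obtain ⟨st, hst, ⟨D⟩⟩ := exists_decomp S fam
  have hcount : ∀ {a b c : El.klein} {A B C : List ℤ}, IsValuation fam a 1 A →
      IsValuation fam b 1 B → IsValuation fam c 1 C → a ^ 3 = 1 → b ^ 3 = 1 → c ^ 3 = 1 →
      a ≠ 1 → b ≠ 1 → c ≠ 1 → ¬ (IsConj a b ∧ IsConj a⁻¹ c) → triCount a b c = 0 →
      (D.cols.map fun p => ((dot A p.c * dot B p.c * dot C p.c : ℤ) : ℚ) / p.y).sum = 0 := by
    intro a b c A B C hA hB hC ha hb hc ha1 hb1 hc1 hne h0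
    have h := S.triangle_count ha hb hc ha1 hb1 hc1 hne
    rw [D.cols_triple hA hB hC, h0, Nat.cast_zero, mul_eq_zero] at h
    exact Rat.cast_eq_zero.mp (h.resolve_left natCard_ne_zero)
  have hEqs : Eqs D.cols :=
    ⟨D.cols_ne_zero, fun i hi => D.cols_relation (by simpa [fam, vecs] using hi),
      hcount isVal_tu isVal_tu isVal_tv tu_cube tu_cube tv_cube tu_ne tu_ne tv_ne
        (fun h => not_conj_inv_uv h.2) count_uuv,
      hcount isVal_tu isVal_tv isVal_tv tu_cube tv_cube tv_cube tu_ne tv_ne tv_ne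
        (fun h => not_conj_uv h.1) count_uvv,
      hcount isVal_tu isVal_tu isVal_tw tu_cube tu_cube tw_cube tu_ne tu_ne tw_ne
        (fun h => not_conj_inv_uw h.2) count_uuw,
      hcount isVal_tv isVal_tv isVal_tw tv_cube tv_cube tw_cube tv_ne tv_ne tw_ne
        (fun h => not_conj_inv_vw h.2) count_vvw⟩
  obtain ⟨p, hp, hpc, hpy⟩ := exists_linear st hst D.cols D.cols_map_c D.cols_head hEqs
  obtain ⟨q, hq, hqc, hqy⟩ := D.mem_cols hp
  rw [hpc] at hqc
  rw [hpy] at hqy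
  obtain ⟨hsign, hdeg⟩ := D.linear_of_ydeg hq hqy
  have hval : ∀ {a : El.klein} {A : List ℤ}, IsValuation fam a 1 A →
      (q.1 : G → ℂ) (S.φ a) = ((dot A [0, 0, 1, 1, 0] : ℤ) : ℂ) := by
    intro a A hA
    have := value (S := S) hA (p := q)
    rwa [Int.cast_one, one_mul, sc, hsign, Int.cast_one, one_mul, hqc] at this
  have hu : (q.1 : G → ℂ) (S.φ tu) = 1 := by rw [hval isVal_tu]; simp [dot]
  have hv : (q.1 : G → ℂ) (S.φ tv) = 1 := by rw [hval isVal_tv]; simp [dot]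
  have hxrs : (q.1 : G → ℂ) (S.φ xrs) = -1 := by rw [hval isVal_xrs]; simp [dot]
  have hxsr : (q.1 : G → ℂ) (S.φ xsr) = -1 := by rw [hval isVal_xsr]; simp [dot]
  have hne : q.1 ≠ oneChar G := by
    intro e
    rw [e, oneChar_apply] at hxrs
    norm_num at hxrs
  obtain ⟨l, hl⟩ := exists_linChar_eq q.1 hdeg
  have hlin : ∀ x y : G, (q.1 : G → ℂ) (x * y) = (q.1 : G → ℂ) x * (q.1 : G → ℂ) y := fun x y => by
    rw [← hl]; simp
  obtain ⟨M, hMn, -, hT, -, hmem⟩ := S.exists_kernel q.1 hdeg hne tu tv (fun x hx => by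
    obtain ⟨i, j, rfl⟩ := gen_trans x hx
    exact mul_mem (pow_mem (Subgroup.subset_closure (by simp)) _)
      (pow_mem (Subgroup.subset_closure (by simp)) _)) hu hv
  have hM : ∀ k : El.klein, S.φ k ∈ M ↔ (k : El) ∈ El.pm := by
    intro k
    obtain ⟨t, ht, h⟩ := split k
    have ht1 : (q.1 : G → ℂ) (S.φ t) = 1 := (hmem _).mp (hT t ht)
    rw [hmem]
    rcases h with ⟨hk, rfl | rfl⟩ | ⟨hk, rfl | rfl⟩
    · exact iff_of_true ht1 hk
    · refine iff_of_true ?_ hk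
      rw [map_mul, map_mul, hlin, hlin, hxrs, hxsr, ht1]
      norm_num
    · refine iff_of_false ?_ hk
      rw [map_mul, hlin, hxrs, ht1]
      norm_num
    · refine iff_of_false ?_ hk
      rw [map_mul, hlin, hxsr, ht1]
      norm_num
  have hrange : ∀ k : El.klein, k ∈ (Subgroup.inclusion pm_le).range ↔ (k : El) ∈ El.pm :=
    fun k => ⟨fun ⟨x, hx⟩ => hx ▸ x.2, fun h => ⟨⟨(k : El), h⟩, rfl⟩⟩
  haveI := hMn
  have htop := PlusMinus.range_eq_top (S.restrict M El.pm (Subgroup.inclusion pm_le)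
    (Subgroup.inclusion_injective pm_le) (fun x hx => (hrange x).mpr (cube_mem_pm x hx))
    (fun k => (hM k).trans (hrange k).symm))
  exact S.range_eq_top_of_normal M hT (S.restrict_range_le M El.pm (Subgroup.inclusion pm_le)
    (Subgroup.inclusion_injective pm_le) (fun x hx => (hrange x).mpr (cube_mem_pm x hx))
    (fun k => (hM k).trans (hrange k).symm) htop)

end Klein

end CfsgLib.TIThree
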