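import Cfsg.Agent.TIThree.Reduce
import Cfsg.Agent.Chars.Basic.Linear

/-!
# Kernels of linear characters trivial on the translations
-/

set_option autoImplicit false

namespace CfsgLib.TIThree

open Cfsg CfsgLib.Chars

universe u

variable {G : Type u} [Group G] [Finite G] {K : Type} [Group K]

namespace Setting

variable (S : Setting K G)

/-- The kernel of a nontrivial linear character which is `1` at two generators of the translations
contains all translations and not the whole normalizer. -/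
theorem exists_kernel (χ : IrrCharacter G) (h1 : (χ : G → ℂ) 1 = 1) (hne : χ ≠ oneChar G)
    (a b : K) (hgen : ∀ x : K, x ^ 3 = 1 → x ∈ Subgroup.closure ({a, b} : Set K))
    (ha : (χ : G → ℂ) (S.φ a) = 1) (hb : (χ : G → ℂ) (S.φ b) = 1) :
    ∃ M : Subgroup G, M.Normal ∧ M ≠ ⊤ ∧ (∀ x : K, x ^ 3 = 1 → S.φ x ∈ M) ∧
      (∃ k : K, S.φ k ∉ M) ∧ ∀ g, g ∈ M ↔ (χ : G → ℂ) g = 1 := by
  obtain ⟨l, hl⟩ := exists_linChar_eq χ h1
  have hval : ∀ g, (χ : G → ℂ) g = (l g : ℂ) := fun g => by rw [← hl]; simp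
  have hmem : ∀ g, g ∈ l.ker ↔ (χ : G → ℂ) g = 1 := fun g => by
    rw [hval, MonoidHom.mem_ker, Units.val_eq_one]
  have hT : ∀ x : K, x ^ 3 = 1 → S.φ x ∈ l.ker := by
    intro x hx
    have hle : Subgroup.closure ({a, b} : Set K) ≤ l.ker.comap S.φ := by
      rw [Subgroup.closure_le]
      intro y hy
      simp only [Set.mem_insert_iff, Set.mem_singleton_iff] at hy
      rcases hy with rfl | rfl
      · exact (hmem _).mpr ha
      · exact (hmem _).mpr hb
    exact hle (hgen x hx)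
  have htop : l.ker ≠ ⊤ := by
    intro e
    refine hne ((eq_oneChar_iff χ).mpr (funext fun g => ?_))
    exact (hmem g).mp (by rw [e]; trivial)
  refine ⟨l.ker, inferInstance, htop, hT, ?_, hmem⟩
  by_contra hall
  push Not at hall
  exact htop (S.eq_top_of_range_le l.ker hall)

/-- A normal subgroup meeting the normalizer exactly in the translations forces the normalizer to
be everything. -/
theorem range_eq_top_of_preimage_trans [Fintype K] (h9 : Nat.card S.sub3 = 9) (M : Subgroup G)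
    [M.Normal] (hT : ∀ x : K, x ^ 3 = 1 → S.φ x ∈ M) (hMT : ∀ k : K, S.φ k ∈ M → k ^ 3 = 1) :
    S.φ.range = ⊤ := by
  have hM : ∀ k : K, S.φ k ∈ M ↔ k ∈ S.sub3.subtype.range := by
    intro k
    rw [Subgroup.range_subtype]
    exact ⟨hMT k, hT k⟩
  have h3 : ∀ x : K, x ^ 3 = 1 → x ∈ S.sub3.subtype.range := fun x hx => ⟨⟨x, hx⟩, rfl⟩
  haveI : Fintype S.sub3 := Fintype.ofFinite _
  have htop := (S.restrict M S.sub3 S.sub3.subtype Subtype.val_injective h3 hM).range_eq_top_of_trans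
    (fun x => Subtype.ext x.2) h9
  exact S.range_eq_top_of_normal M hT (S.restrict_range_le M S.sub3 S.sub3.subtype
    Subtype.val_injective h3 hM htop)

/-- If the translations have index two in `K`, a linear character trivial on them forces the
normalizer to be everything. -/
theorem range_eq_top_of_index_two [Fintype K] (h9 : Nat.card S.sub3 = 9) (M : Subgroup G)
    [M.Normal] (hT : ∀ x : K, x ^ 3 = 1 → S.φ x ∈ M) (hK : ∃ k : K, S.φ k ∉ M)
    (h2 : ∀ k l : K, k ^ 3 ≠ 1 → l ^ 3 ≠ 1 → (k⁻¹ * l) ^ 3 = 1) : S.φ.range = ⊤ := by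
  refine S.range_eq_top_of_preimage_trans h9 M hT fun k hk => ?_
  by_contra hk3
  obtain ⟨k', hk'⟩ := hK
  refine hk' ?_
  by_cases hk'3 : k' ^ 3 = 1
  · exact hT k' hk'3
  · have := mul_mem hk (hT _ (h2 k k' hk3 hk'3))
    rwa [← map_mul, mul_inv_cancel_left] at this

/-- A normal subgroup avoiding the translations is trivial. -/
theorem normal_eq_bot [Fintype K] (h9 : Nat.card S.sub3 = 9)
    (hfix : ∀ x k : K, x ^ 3 = 1 → x ≠ 1 → k * x = x * k → k ^ 3 ≠ 1 →
      ∀ M : Subgroup G, M.Normal → S.φ k ∈ M → ∃ y : K, y ^ 3 = 1 ∧ y ≠ 1 ∧ S.φ y ∈ M)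
    (M : Subgroup G) [hMn : M.Normal] (hT : ∀ x : K, x ^ 3 = 1 → S.φ x ∈ M → x = 1) : M = ⊥ := by
  haveI : Fact (Nat.Prime 3) := ⟨Nat.prime_three⟩
  have hnd : ¬ 3 ∣ Nat.card M := by
    intro h
    obtain ⟨a, ha⟩ := exists_prime_orderOf_dvd_card' 3 h
    have hP : IsPGroup 3 (Subgroup.zpowers (a : G)) := by
      refine IsPGroup.of_card (n := 1) ?_
      rw [Nat.card_zpowers, Subgroup.orderOf_coe, ha, pow_one]
    obtain ⟨g, hg⟩ := S.sylow _ hP
    obtain ⟨x, hx, e⟩ := hg a (Subgroup.mem_zpowers _)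
    have hxM : S.φ x ∈ M := by rw [e]; exact hMn.conj_mem _ a.2 g
    have := hT x hx hxM
    rw [this, map_one, eq_comm, conj_eq_one_iff, OneMemClass.coe_eq_one] at e
    rw [e, orderOf_one] at ha
    norm_num at ha
  have hc9 : Nat.card S.timg = 9 := by
    rw [Setting.timg, Subgroup.card_map_of_injective S.inj, h9]
  have hnc : ¬ IsCyclic S.timg := by
    intro hc
    obtain ⟨g, hg⟩ := hc.exists_ofOrder_eq_natCard
    rw [hc9] at hg
    have h3 : g ^ 3 = 1 := by
      obtain ⟨x, hx, e⟩ := S.mem_timg.mp g.2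
      apply Subtype.ext
      rw [SubmonoidClass.coe_pow, ← e, ← map_pow, hx, map_one, OneMemClass.coe_one]
    have := orderOf_dvd_of_pow_eq_one h3
    rw [hg] at this
    norm_num at this
  rw [eq_bot_iff]
  refine CfsgLib.Coprime.le_of_centralizers ⟨⟨fun a b => Subtype.ext (S.tiData.comm a a.2 b b.2)⟩⟩
    hnc (fun g _ => by rw [Subgroup.normalizer_eq_top]; trivial) ?_ ?_
  · show (Nat.card S.timg).Coprime _
    rw [hc9, show (9 : ℕ) = 3 ^ 2 from rfl]
    exact ((Nat.prime_three.coprime_iff_not_dvd).mpr hnd).pow_left 2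
  · rintro a ⟨x, hx, rfl⟩ ha g ⟨hgM, hgC⟩
    have hx1 : x ≠ 1 := fun e => ha (by rw [e, map_one])
    obtain ⟨k, rfl⟩ := S.cent x hx hx1 g (Subgroup.mem_centralizer_singleton_iff.mp hgC)
    have hkx : k * x = x * k := S.inj (by
      simpa using Subgroup.mem_centralizer_singleton_iff.mp hgC)
    by_cases hk : k ^ 3 = 1
    · rw [Subgroup.mem_bot, hT k hk hgM, map_one]
    · obtain ⟨y, hy, hy1, hyM⟩ := hfix x k hx hx1 hkx hk M hMn hgM
      exact absurd (hT y hy hyM) hy1

end Setting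

end CfsgLib.TIThree
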