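import Cfsg.Agent.Chars.Brauer.Characterization
import Cfsg.Agent.Chars.PermChar.Basic

/-!
# The affine monomial group `(3 × 3) ⋊ D8` and the virtual characters used with it
-/

set_option autoImplicit false

namespace CfsgLib.TIThree

/-- Elements `(t, diag(±1, ±1) * swap ^ w)` of the affine monomial group of the plane over three
elements. -/
structure El where
  /-- first translation coordinate -/
  a : Fin 3
  /-- second translation coordinate -/
  b : Fin 3
  /-- sign of the first coordinate -/
  p : Bool
  /-- sign of the second coordinate -/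
  q : Bool
  /-- the swap -/
  w : Bool
deriving DecidableEq

namespace El

/-- Signed value. -/
def sg (s : Bool) (x : Fin 3) : Fin 3 := cond s (-x) x

/-- Coordinates as a product. -/
def equivProd : El ≃ Fin 3 × Fin 3 × Bool × Bool × Bool where
  toFun x := (x.a, x.b, x.p, x.q, x.w)
  invFun x := ⟨x.1, x.2.1, x.2.2.1, x.2.2.2.1, x.2.2.2.2⟩
  left_inv _ := rfl
  right_inv _ := rfl

instance : Fintype El := Fintype.ofEquiv _ equivProd.symm

/-- The action on the plane. -/
def act (x : El) (v : Fin 3 × Fin 3) : Fin 3 × Fin 3 :=
  (x.a + sg x.p (cond x.w v.2 v.1), x.b + sg x.q (cond x.w v.1 v.2))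

instance : Mul El :=
  ⟨fun x y => ⟨x.a + sg x.p (cond x.w y.b y.a), x.b + sg x.q (cond x.w y.a y.b),
    xor x.p (cond x.w y.q y.p), xor x.q (cond x.w y.p y.q), xor x.w y.w⟩⟩

instance : One El := ⟨⟨0, 0, false, false, false⟩⟩

instance : Inv El :=
  ⟨fun x => ⟨cond x.w (sg x.q (-x.b)) (sg x.p (-x.a)), cond x.w (sg x.p (-x.a)) (sg x.q (-x.b)),
    cond x.w x.q x.p, cond x.w x.p x.q, x.w⟩⟩

theorem act_injective : ∀ x y : El, (∀ v, act x v = act y v) → x = y := by decide +kernel

theorem act_mul : ∀ x y : El, ∀ v, act (x * y) v = act x (act y v) := by decide +kernel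

theorem act_one : ∀ v, act 1 v = v := by decide +kernel

theorem inv_mul' : ∀ x : El, x⁻¹ * x = 1 := by decide +kernel

instance : Group El :=
  Group.ofLeftAxioms (fun x y z => act_injective _ _ fun v => by rw [act_mul, act_mul, act_mul, act_mul])
    (fun x => act_injective _ _ fun v => by rw [act_mul, act_one])
    inv_mul'

/-- The translations. -/
def IsTrans (x : El) : Prop := x.p = false ∧ x.q = false ∧ x.w = false

instance : DecidablePred IsTrans := fun _ => inferInstanceAs (Decidable (_ ∧ _))

theorem pow_twelve : ∀ x : El, x ^ 12 = 1 := by decide +kernel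

theorem isTrans_iff_cube : ∀ x : El, IsTrans x ↔ x ^ 3 = 1 := by decide +kernel

theorem isTrans_pow_four : ∀ x : El, IsTrans (x ^ 4) := by decide +kernel

theorem isTrans_conj : ∀ x y : El, IsTrans y → IsTrans (x * y * x⁻¹) := by decide +kernel

theorem isTrans_comm : ∀ x y : El, IsTrans x → IsTrans y → x * y = y * x := by decide +kernel

theorem isTrans_mul : ∀ x y : El, IsTrans x → IsTrans y → IsTrans (x * y) := by decide +kernel

theorem isTrans_inv : ∀ x : El, IsTrans x → IsTrans x⁻¹ := by decide +kernel

/-- The group of translations. -/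
def trans : Subgroup El where
  carrier := {x | IsTrans x}
  one_mem' := ⟨rfl, rfl, rfl⟩
  mul_mem' := fun {a b} ha hb => isTrans_mul a b ha hb
  inv_mem' := fun {a} ha => isTrans_inv a ha

instance : DecidablePred (· ∈ trans) := fun x => inferInstanceAs (Decidable (IsTrans x))

theorem mem_trans {x : El} : x ∈ trans ↔ IsTrans x := Iff.rfl

theorem v4_mul : ∀ x y : El, x.w = false → y.w = false → (x * y).w = false := by decide +kernel
theorem v4_inv : ∀ x : El, x.w = false → (x⁻¹).w = false := by decide +kernel

/-- The subgroup with automizer the diagonal Klein group. -/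
def klein : Subgroup El where
  carrier := {x | x.w = false}
  one_mem' := rfl
  mul_mem' := fun {a b} ha hb => v4_mul a b ha hb
  inv_mem' := fun {a} ha => v4_inv a ha

instance : DecidablePred (· ∈ klein) := fun x => inferInstanceAs (Decidable (x.w = false))

theorem c4_mul : ∀ x y : El, xor x.p x.q = x.w → xor y.p y.q = y.w →
    xor (x * y).p (x * y).q = (x * y).w := by decide +kernel
theorem c4_inv : ∀ x : El, xor x.p x.q = x.w → xor (x⁻¹).p (x⁻¹).q = (x⁻¹).w := by decide +kernel

/-- The subgroup with cyclic automizer of order four. -/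
def cyc : Subgroup El where
  carrier := {x | xor x.p x.q = x.w}
  one_mem' := rfl
  mul_mem' := fun {a b} ha hb => c4_mul a b ha hb
  inv_mem' := fun {a} ha => c4_inv a ha

instance : DecidablePred (· ∈ cyc) := fun x => inferInstanceAs (Decidable (xor x.p x.q = x.w))

theorem pm_mul : ∀ x y : El, x.p = x.q ∧ x.w = false → y.p = y.q ∧ y.w = false →
    (x * y).p = (x * y).q ∧ (x * y).w = false := by decide +kernel
theorem pm_inv : ∀ x : El, x.p = x.q ∧ x.w = false → (x⁻¹).p = (x⁻¹).q ∧ (x⁻¹).w = false := by
  decide +kernel

/-- The subgroup with automizer inverting the translations. -/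
def pm : Subgroup El where
  carrier := {x | x.p = x.q ∧ x.w = false}
  one_mem' := ⟨rfl, rfl⟩
  mul_mem' := fun {a b} ha hb => pm_mul a b ha hb
  inv_mem' := fun {a} ha => pm_inv a ha

instance : DecidablePred (· ∈ pm) := fun x =>
  inferInstanceAs (Decidable (x.p = x.q ∧ x.w = false))

instance : DecidablePred (· ∈ (⊤ : Subgroup El)) := fun _ => isTrue trivial

/-! ## Permutation characters -/

/-- The number of fixed points. -/
def fixCount {H Ω : Type} [Fintype Ω] [DecidableEq Ω] (f : H → Ω → Ω) (h : H) : ℤ :=
  ((Finset.univ.filter fun x => f h x = x).card : ℕ)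

/-- The action on six points. -/
def act6 (x : El) (v : Bool × Fin 3) : Bool × Fin 3 :=
  (xor v.1 x.w, cond (xor v.1 x.w) (x.b + sg x.q v.2) (x.a + sg x.p v.2))

/-- The action on four points. -/
def act4 (x : El) (v : Bool × Bool) : Bool × Bool :=
  (xor v.1 x.w, xor v.2 (cond (xor v.1 x.w) x.q x.p))

/-- The action on two points through the swap. -/
def act2w (x : El) (v : Bool) : Bool := xor v x.w

/-- The action on two points through the determinant of the diagonal part. -/
def act2d (x : El) (v : Bool) : Bool := xor v (xor x.p x.q)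

/-- The action on two points through the first sign. -/
def act2p (x : El) (v : Bool) : Bool := xor v x.p

/-- The action on two points through the second sign. -/
def act2q (x : El) (v : Bool) : Bool := xor v x.q

/-- The action on the first coordinate. -/
def act3a (x : El) (v : Fin 3) : Fin 3 := x.a + sg x.p v

/-- The action on the second coordinate. -/
def act3b (x : El) (v : Fin 3) : Fin 3 := x.b + sg x.q v

/-- The action on the sum of the coordinates. -/
def act3s (x : El) (v : Fin 3) : Fin 3 := x.a + x.b + sg x.p v

/-- The action on the difference of the coordinates. -/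
def act3d (x : El) (v : Fin 3) : Fin 3 := x.a - x.b + sg x.p v

end El

/-- Integer valued functions that are virtual characters. -/
def IsIntGen (K : Type) [Group K] (f : K → ℤ) : Prop :=
  Cfsg.IsGeneralizedCharacter K (fun x => (f x : ℂ))

namespace IsIntGen

open CfsgLib.Chars.Exceptional

variable {K : Type} [Group K]

theorem add {f g : K → ℤ} (hf : IsIntGen K f) (hg : IsIntGen K g) :
    IsIntGen K (fun x => f x + g x) := by
  have h := gen_add hf hg
  unfold IsIntGen
  convert h using 1
  funext x
  simp

theorem sub {f g : K → ℤ} (hf : IsIntGen K f) (hg : IsIntGen K g) :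
    IsIntGen K (fun x => f x - g x) := by
  have h := gen_sub hf hg
  unfold IsIntGen
  convert h using 1
  funext x
  simp

theorem mul {f g : K → ℤ} (hf : IsIntGen K f) (hg : IsIntGen K g) :
    IsIntGen K (fun x => f x * g x) := by
  have h := CfsgLib.Chars.Brauer.gen_mul hf hg
  unfold IsIntGen
  convert h using 1
  funext x
  simp

theorem one : IsIntGen K (fun _ => 1) := by
  have h := gen_of_irr (CfsgLib.Chars.isIrrCharacter_one (G := K))
  unfold IsIntGen
  simpa using h

/-- Fixed point counts of an action are virtual characters. -/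
theorem fixCount {Ω : Type} [Fintype Ω] [DecidableEq Ω] (f : K → Ω → Ω) (h1 : ∀ v, f 1 v = v)
    (hm : ∀ x y v, f (x * y) v = f x (f y v)) : IsIntGen K (El.fixCount f) := by
  letI : MulAction K Ω := { smul := f, one_smul := h1, mul_smul := hm }
  have h := gen_of_char (CfsgLib.Chars.PermChar.isCharacter_fixChar (G := K) (Ω := Ω))
  unfold IsIntGen
  convert h using 1
  funext x
  simp only [El.fixCount, CfsgLib.Chars.PermChar.fixChar, Int.cast_natCast, Nat.cast_inj]
  rw [Nat.card_eq_fintype_card, Fintype.card_subtype]
  rfl

end IsIntGen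

end CfsgLib.TIThree
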