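import Cfsg.Agent.TIThree.PlusMinus

/-!
# A cyclic automizer of order four
-/

set_option autoImplicit false

namespace CfsgLib.TIThree

open Cfsg CfsgLib.Chars Rows Decomp

universe u

namespace Cyclic

/-- The sum of the linear characters minus an exceptional one. -/
def vecW (x : El.cyc) : ℤ :=
  El.fixCount (fun y : El.cyc => El.act4 (y : El)) x -
    El.fixCount (fun y : El.cyc => El.act6 (y : El)) x +
    El.fixCount (fun y : El.cyc => El.act2w (y : El)) x

/-- The difference of the exceptional characters. -/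
def vecD (x : El.cyc) : ℤ :=
  El.fixCount (fun y : El.cyc => El.act6 (y : El)) x +
    El.fixCount (fun y : El.cyc => El.act6 (y : El)) x -
    El.fixCount (fun y : El.cyc => El.act (y : El)) x -
    El.fixCount (fun y : El.cyc => El.act2w (y : El)) x -
    El.fixCount (fun y : El.cyc => El.act2w (y : El)) x + 1

theorem act2w_one : ∀ v, El.act2w ((1 : El.cyc) : El) v = v := by decide +kernel
theorem act4_one : ∀ v, El.act4 ((1 : El.cyc) : El) v = v := by decide +kernel
theorem act6_one : ∀ v, El.act6 ((1 : El.cyc) : El) v = v := by decide +kernel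
theorem act9_one : ∀ v, El.act ((1 : El.cyc) : El) v = v := by decide +kernel

theorem act2w_mul : ∀ x y : El.cyc, ∀ v,
    El.act2w ((x * y : El.cyc) : El) v = El.act2w (x : El) (El.act2w (y : El) v) := by decide +kernel
theorem act4_mul : ∀ x y : El.cyc, ∀ v,
    El.act4 ((x * y : El.cyc) : El) v = El.act4 (x : El) (El.act4 (y : El) v) := by decide +kernel
theorem act6_mul : ∀ x y : El.cyc, ∀ v,
    El.act6 ((x * y : El.cyc) : El) v = El.act6 (x : El) (El.act6 (y : El) v) := by decide +kernel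
theorem act9_mul : ∀ x y : El.cyc, ∀ v,
    El.act ((x * y : El.cyc) : El) v = El.act (x : El) (El.act (y : El) v) :=
  fun x y v => El.act_mul _ _ v

theorem isIntGen_vecW : IsIntGen El.cyc vecW :=
  ((IsIntGen.fixCount (fun y : El.cyc => El.act4 (y : El)) act4_one act4_mul).sub (IsIntGen.fixCount (fun y : El.cyc => El.act6 (y : El)) act6_one act6_mul)).add
    (IsIntGen.fixCount (fun y : El.cyc => El.act2w (y : El)) act2w_one act2w_mul)

theorem isIntGen_vecD : IsIntGen El.cyc vecD :=
  (((((IsIntGen.fixCount (fun y : El.cyc => El.act6 (y : El)) act6_one act6_mul).add (IsIntGen.fixCount (fun y : El.cyc => El.act6 (y : El)) act6_one act6_mul)).sub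
    (IsIntGen.fixCount (fun y : El.cyc => El.act (y : El)) act9_one act9_mul)).sub (IsIntGen.fixCount (fun y : El.cyc => El.act2w (y : El)) act2w_one act2w_mul)).sub
    (IsIntGen.fixCount (fun y : El.cyc => El.act2w (y : El)) act2w_one act2w_mul)).add IsIntGen.one

theorem vecW_sing : ∀ k : El.cyc, k ^ 4 = 1 → vecW k = 0 := by decide +kernel
theorem vecD_sing : ∀ k : El.cyc, k ^ 4 = 1 → vecD k = 0 := by decide +kernel
theorem vecW_cls : ∀ k h : El.cyc, vecW (h * k * h⁻¹) = vecW k := by decide +kernel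
theorem vecD_cls : ∀ k h : El.cyc, vecD (h * k * h⁻¹) = vecD k := by decide +kernel

/-- The invariants of the two vectors. -/
def specs : List Spec := [⟨1, 5, []⟩, ⟨0, 2, [-1]⟩]

/-- The family. -/
def fam : Fam El.cyc where
  vs := [vecW, vecD]
  specs := specs
  gen := fun v hv => by
    simp only [List.mem_cons, List.not_mem_nil, or_false] at hv
    rcases hv with rfl | rfl
    exacts [isIntGen_vecW, isIntGen_vecD]
  sing := fun v hv => by
    simp only [List.mem_cons, List.not_mem_nil, or_false] at hv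
    rcases hv with rfl | rfl
    exacts [vecW_sing, vecD_sing]
  cls := fun v hv => by
    simp only [List.mem_cons, List.not_mem_nil, or_false] at hv
    rcases hv with rfl | rfl
    exacts [vecW_cls, vecD_cls]
  ok := by decide +kernel

theorem enum_eq : enum specs = [[[1, 0], [1, -1], [1, 0], [1, 0], [1, 0], [0, 1]]] := by
  decide +kernel

/-- An axis element. -/
def ta : El.cyc := ⟨⟨1, 0, false, false, false⟩, rfl⟩

/-- The other axis element. -/
def tb : El.cyc := ⟨⟨0, 1, false, false, false⟩, rfl⟩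

/-- A diagonal element. -/
def tc : El.cyc := ⟨⟨1, 1, false, false, false⟩, rfl⟩

theorem isVal_ta : IsValuation fam ta 1 [1, 2] := ⟨rfl, one_ne_zero, by decide +kernel⟩

theorem isVal_tc : IsValuation fam tc 1 [1, -1] := ⟨rfl, one_ne_zero, by decide +kernel⟩

theorem count_aac : triCount ta ta tc = 162 := by decide +kernel

theorem not_conj : ¬ (IsConj ta ta ∧ IsConj ta⁻¹ tc) := by
  rintro ⟨-, h⟩
  obtain ⟨c, hc⟩ := isConj_iff.mp h
  revert hc
  revert c
  decide +kernel

theorem gen_trans : ∀ x : El.cyc, x ^ 3 = 1 → ∃ i j : Fin 3, x = ta ^ (i : ℕ) * tc ^ (j : ℕ) := by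
  decide +kernel

theorem card_cube : Nat.card {x : El.cyc // x ^ 3 = 1} = 9 := by
  rw [Nat.card_eq_fintype_card]
  decide +kernel

theorem card_cyc : Fintype.card El.cyc = 36 := by decide +kernel

theorem cent_trans : ∀ x k : El.cyc, x ^ 3 = 1 → x ≠ 1 → k * x = x * k → k ^ 3 = 1 := by
  decide +kernel

theorem trans_irred : ∀ x : El.cyc, x ^ 3 = 1 → x ≠ 1 → ∀ y : El.cyc, y ^ 3 = 1 →
    ∃ g : El.cyc, ∃ i j : Fin 3, y = x ^ (i : ℕ) * (g * x * g⁻¹) ^ (j : ℕ) := by decide +kernel

theorem pm_le : El.pm ≤ El.cyc := by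
  intro x hx
  show xor x.p x.q = x.w
  rw [hx.1, hx.2, Bool.xor_self]

theorem mem_pm_iff : ∀ k : El.cyc, (k : El) ∈ El.pm ↔ (k : El).w = false := by decide +kernel

theorem four_gen : ∀ k l : El.cyc, (k : El).w = true → ∃ i : Fin 4, ∃ t : El.cyc, t ^ 3 = 1 ∧
    l = k ^ (i : ℕ) * t := by decide +kernel

theorem two_gen : ∀ k l : El.cyc, k ^ 3 ≠ 1 → (k : El).w = false → (l : El).w = false →
    ∃ i : Fin 2, ∃ t : El.cyc, t ^ 3 = 1 ∧ l = k ^ (i : ℕ) * t := by decide +kernel

variable {G : Type u} [Group G] [Finite G] (S : Setting El.cyc G)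

theorem h9 : Nat.card S.sub3 = 9 := card_cube

/-- Outside the trivial case the group is simple. -/
theorem eq_bot_or_eq_top_of_normal (htop : S.φ.range ≠ ⊤) (M : Subgroup G) [M.Normal] :
    M = ⊥ ∨ M = ⊤ := by
  classical
  by_cases hT : ∀ x : El.cyc, x ^ 3 = 1 → S.φ x ∈ M → x = 1
  · exact Or.inl (S.normal_eq_bot (h9 S)
      (fun x k hx hx1 hkx hk => absurd (cent_trans x k hx hx1 hkx) hk) M hT)
  right
  push Not at hT
  obtain ⟨x, hx, hxM, hx1⟩ := hT
  have hTM : ∀ y : El.cyc, y ^ 3 = 1 → S.φ y ∈ M := by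
    intro y hy
    obtain ⟨g, i, j, rfl⟩ := trans_irred x hx hx1 y hy
    rw [map_mul, map_pow, map_pow]
    refine mul_mem (pow_mem hxM _) (pow_mem ?_ _)
    rw [map_mul, map_mul, map_inv]
    exact Subgroup.Normal.conj_mem inferInstance _ hxM _
  by_contra hMtop
  refine htop ?_
  by_cases hw : ∃ k : El.cyc, (k : El).w = true ∧ S.φ k ∈ M
  · obtain ⟨k, hkw, hk⟩ := hw
    refine absurd (S.eq_top_of_range_le M fun l => ?_) hMtop
    obtain ⟨i, t, ht, rfl⟩ := four_gen k l hkw
    rw [map_mul, map_pow]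
    exact mul_mem (pow_mem hk _) (hTM t ht)
  push Not at hw
  have hw' : ∀ k : El.cyc, S.φ k ∈ M → (k : El).w = false := fun k hk => by
    by_contra h
    exact hw k (by simpa using h) hk
  by_cases hk3 : ∀ k : El.cyc, S.φ k ∈ M → k ^ 3 = 1
  · exact S.range_eq_top_of_preimage_trans (h9 S) M hTM hk3
  push Not at hk3
  obtain ⟨k, hk, hk3⟩ := hk3
  let ι : El.pm →* El.cyc := Subgroup.inclusion pm_le
  have hM : ∀ l : El.cyc, S.φ l ∈ M ↔ l ∈ ι.range := by
    intro l
    refine ⟨fun hl => ⟨⟨(l : El), (mem_pm_iff l).mpr (hw' l hl)⟩, Subtype.ext rfl⟩, ?_⟩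
    rintro ⟨y, rfl⟩
    obtain ⟨i, t, ht, e⟩ := two_gen k (ι y) hk3 (hw' k hk) y.2.2
    rw [e, map_mul, map_pow]
    exact mul_mem (pow_mem hk _) (hTM t ht)
  have h3 : ∀ y : El.cyc, y ^ 3 = 1 → y ∈ ι.range := fun y hy => (hM y).mp (hTM y hy)
  have h := PlusMinus.range_eq_top (S.restrict M El.pm ι (Subgroup.inclusion_injective pm_le) h3 hM)
  exact S.range_eq_top_of_normal M hTM
    (S.restrict_range_le M El.pm ι (Subgroup.inclusion_injective pm_le) h3 hM h)

theorem arith {a b c y M : ℤ} (ha : a % 9 = 1) (hb : b % 9 = 1) (hc : c % 9 = 1) (ha1 : a ≠ 1)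
    (hb1 : b ≠ 1) (hc1 : c ≠ 1) (hy : y = -(1 + a + b + c)) (hM : M % 9 = 1) (hM0 : 0 < M)
    (h : (M : ℚ) * (1 + 1 / (a : ℚ) + 1 / (b : ℚ) + 1 / (c : ℚ) - 2 / (y : ℚ)) = 9 / 2) :
    M = 10 := by
  have key : ∀ x : ℤ, x % 9 = 1 → x ≠ 1 →
      -(1 / 8 : ℚ) ≤ 1 / (x : ℚ) ∧ 1 / (x : ℚ) ≤ 1 / 10 ∧ (0 < x → 0 < 1 / (x : ℚ)) := by
    intro x hx hx1
    rcases (show x ≤ -8 ∨ 10 ≤ x by omega) with h | h
    · have h' : (x : ℚ) ≤ -8 := by exact_mod_cast h
      refine ⟨?_, ?_, fun h0 => absurd h0 (by omega)⟩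
      · rw [le_div_iff_of_neg (by linarith)]; linarith
      · exact le_trans (div_nonpos_of_nonneg_of_nonpos zero_le_one (by linarith)) (by norm_num)
    · have h' : (10 : ℚ) ≤ x := by exact_mod_cast h
      exact ⟨le_trans (by norm_num) (div_nonneg zero_le_one (by linarith : (0 : ℚ) ≤ x)),
        one_div_le_one_div_of_le (by norm_num) h', fun _ => div_pos one_pos (by linarith)⟩
  obtain ⟨a1, a2, a3⟩ := key a ha ha1
  obtain ⟨b1, b2, b3⟩ := key b hb hb1
  obtain ⟨c1, c2, c3⟩ := key c hc hc1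
  have hy9 : y % 9 = 5 := by omega
  have hy' : -(2 / 5 : ℚ) ≤ -(2 / (y : ℚ)) ∧ -(2 / (y : ℚ)) ≤ 1 / 2 ∧
      (y ≠ 5 → -(1 / 7 : ℚ) ≤ -(2 / (y : ℚ))) := by
    rcases (show y ≤ -4 ∨ y = 5 ∨ 14 ≤ y by omega) with h | h | h
    · have h' : (y : ℚ) ≤ -4 := by exact_mod_cast h
      have e1 : 2 / (y : ℚ) ≤ 0 := div_nonpos_of_nonneg_of_nonpos (by norm_num) (by linarith)
      refine ⟨by linarith, ?_, fun _ => by linarith⟩
      have : -(1 / 2 : ℚ) ≤ 2 / (y : ℚ) := by rw [le_div_iff_of_neg (by linarith)]; linarith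
      linarith
    · subst h
      exact ⟨by norm_num, by norm_num, fun h => absurd rfl h⟩
    · have h' : (14 : ℚ) ≤ y := by exact_mod_cast h
      have e1 : 2 / (y : ℚ) ≤ 1 / 7 := by rw [div_le_iff₀ (by linarith)]; linarith
      have e2 : 0 ≤ 2 / (y : ℚ) := div_nonneg (by norm_num) (by linarith)
      exact ⟨by linarith, by linarith, fun _ => by linarith⟩
  obtain ⟨y1, y2, y3⟩ := hy'
  have hS : (M : ℚ) ≤ 20 := by
    have hM' : (0 : ℚ) < M := by exact_mod_cast hM0
    nlinarith
  have hS' : M ≤ 20 := by exact_mod_cast hS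
  rcases (show M = 1 ∨ M = 10 ∨ M = 19 by omega) with rfl | rfl | rfl
  · push_cast at h; linarith
  · rfl
  · push_cast at h
    by_cases hy5 : y = 5
    · rcases (show 0 < a ∨ 0 < b ∨ 0 < c by omega) with p | p | p
      · have := a3 p; subst hy5; push_cast at h; linarith
      · have := b3 p; subst hy5; push_cast at h; linarith
      · have := c3 p; subst hy5; push_cast at h; linarith
    · have := y3 hy5; linarith

/-- The dichotomy for a cyclic automizer of order four. -/
theorem range_eq_top_or : S.φ.range = ⊤ ∨ (Nat.card G = 360 ∧ IsSimpleGroup G) := by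
  classical
  by_cases htop : S.φ.range = ⊤
  · exact Or.inl htop
  right
  haveI : Nontrivial G := ⟨⟨S.φ ta, 1, fun e => by
    have := S.inj (e.trans S.φ.map_one.symm)
    revert this
    decide +kernel⟩⟩
  have hsimple : IsSimpleGroup G :=
    ⟨fun M hM => eq_bot_or_eq_top_of_normal S htop M⟩
  refine ⟨?_, hsimple⟩
  haveI := Fintype.ofFinite G
  obtain ⟨st, hst, ⟨D⟩⟩ := exists_decomp S fam
  rw [show fam.specs = specs from rfl, enum_eq, List.mem_singleton] at hst
  subst hst
  have hcols := D.map_column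
  simp only [Decomp.all, List.map_cons, List.cons.injEq, List.map_eq_cons_iff,
    List.map_eq_nil_iff] at hcols
  obtain ⟨hc0, m1, l1, hl0, hm1, pa, l2, rfl, hpa, pb, l3, rfl, hpb, pc, l4, rfl, hpc, m2, l5,
    rfl, hm2, rfl⟩ := hcols
  have hall : D.all = [(oneChar G, 1), m1, pa, pb, pc, m2] := by rw [Decomp.all, hl0]
  have hmem : ∀ p, p ∈ [m1, pa, pb, pc, m2] → p ∈ D.all := fun p hp => by
    rw [hall]; exact List.mem_cons_of_mem _ hp
  have hone : ydeg ((oneChar G, (1 : ℤ)) : IrrCharacter G × ℤ) = 1 := by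
    rw [ydeg, one_mul, charDegree_eq_of_map_one (n := 1) (by rw [oneChar_apply, Nat.cast_one])]
    rfl
  have r0 := D.relation (one_pow 4 : (1 : G) ^ 4 = 1) (i := 0) (by simp [fam])
  have r1 := D.relation (one_pow 4 : (1 : G) ^ 4 = 1) (i := 1) (by simp [fam])
  simp only [hall, List.map_cons, List.map_nil, List.sum_cons, List.sum_nil, hc0, hm1, hpa, hpb,
    hpc, hm2, sc_one, hone, List.getD_cons_zero, List.getD_cons_succ] at r0 r1
  have e0 : ydeg m1 = -(1 + ydeg pa + ydeg pb + ydeg pc) := by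
    have : ((ydeg m1 : ℤ) : ℂ) = ((-(1 + ydeg pa + ydeg pb + ydeg pc) : ℤ) : ℂ) := by
      push_cast at r0 ⊢; linear_combination r0
    exact_mod_cast this
  have e1 : ydeg m2 = ydeg m1 := by
    have : ((ydeg m2 : ℤ) : ℂ) = ((ydeg m1 : ℤ) : ℂ) := by
      push_cast at r1 ⊢; linear_combination r1
    exact_mod_cast this
  -- values
  have va : ∀ p, sc (S.φ ta) p = ((dot [1, 2] (column (S := S) (F := fam) p) : ℤ) : ℂ) :=
    fun p => by rw [← value isVal_ta (p := p), Int.cast_one, one_mul]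
  have vc : ∀ p, sc (S.φ tc) p = ((dot [1, -1] (column (S := S) (F := fam) p) : ℤ) : ℂ) :=
    fun p => by rw [← value isVal_tc (p := p), Int.cast_one, one_mul]
  -- congruences
  have hnine : ∀ p ∈ [pa, pb, pc], column (S := S) (F := fam) p = [1, 0] → ydeg p % 9 = 1 := by
    intro p _ hp
    obtain ⟨m, hm⟩ := Decomp.nine_dvd (S := S) (h9 S) p
    have hconst : ∀ k : El.cyc, k ^ 3 = 1 → k ≠ 1 → sc (S.φ k) p = 1 := by
      intro k hk hk1
      have : IsConj k ta ∨ IsConj k tc := by
        have key : ∀ k : El.cyc, k ^ 3 = 1 → k ≠ 1 →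
            (∃ c, c * k * c⁻¹ = ta) ∨ ∃ c, c * k * c⁻¹ = tc := by decide +kernel
        rcases key k hk hk1 with h | h
        · exact Or.inl (isConj_iff.mpr h)
        · exact Or.inr (isConj_iff.mpr h)
      rcases this with h | h
      · have := eq_of_isConj (isClassFunction_coe p.1) (MonoidHom.map_isConj S.φ h)
        rw [sc, this, ← sc, va, hp]
        simp [dot]
      · have := eq_of_isConj (isClassFunction_coe p.1) (MonoidHom.map_isConj S.φ h)
        rw [sc, this, ← sc, vc, hp]
        simp [dot]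
    have hsum : ∑ k : El.cyc, (if k ^ 3 = 1 then sc (S.φ k) p else 0) =
        (ydeg p : ℂ) + 8 := by
      rw [← Finset.sum_filter, ← Finset.add_sum_erase _ _
        (show (1 : El.cyc) ∈ Finset.univ.filter (fun k : El.cyc => k ^ 3 = 1) by simp),
        map_one, sc_one]
      congr 1
      rw [Finset.sum_congr rfl (g := fun _ => (1 : ℂ)) (fun k hk => by
        simp only [Finset.mem_erase, Finset.mem_filter] at hk
        exact hconst k hk.2.2 hk.1), Finset.sum_const, nsmul_one]
      have : ((Finset.univ.filter fun k : El.cyc => k ^ 3 = 1).erase 1).card = 8 := by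
        decide +kernel
      rw [this]; norm_num
    rw [hsum] at hm
    have hm' : ydeg p + 8 = 9 * m := by exact_mod_cast hm
    omega
  -- no linear constituent
  have hnl : ∀ p ∈ [pa, pb, pc], column (S := S) (F := fam) p = [1, 0] → ydeg p ≠ 1 := by
    intro p hp hcol hy
    have hpD : p ∈ D.all := hmem p (by simp at hp ⊢; tauto)
    obtain ⟨hsign, hdeg⟩ := D.linear_of_ydeg hpD hy
    have hne : p.1 ≠ oneChar G := by
      intro e
      have hnd := D.real.2.1
      rw [hl0] at hnd
      simp only [List.mem_cons, List.not_mem_nil, or_false] at hp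
      rcases hp with rfl | rfl | rfl <;> simp [e] at hnd
    have hva : (p.1 : G → ℂ) (S.φ ta) = 1 := by
      have := va p
      rw [sc, hsign, Int.cast_one, one_mul, hcol] at this
      simpa [dot] using this
    have hvc : (p.1 : G → ℂ) (S.φ tc) = 1 := by
      have := vc p
      rw [sc, hsign, Int.cast_one, one_mul, hcol] at this
      simpa [dot] using this
    obtain ⟨M, hMn, hMtop, hT, -, -⟩ := S.exists_kernel p.1 hdeg hne ta tc (fun x hx => by
      obtain ⟨i, j, rfl⟩ := gen_trans x hx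
      exact mul_mem (pow_mem (Subgroup.subset_closure (by simp)) _)
        (pow_mem (Subgroup.subset_closure (by simp)) _)) hva hvc
    rcases eq_bot_or_eq_top_of_normal S htop M with hb | ht
    · have hta := hT ta (by decide +kernel)
      rw [hb, Subgroup.mem_bot] at hta
      have := S.inj (hta.trans S.φ.map_one.symm)
      revert this
      decide +kernel
    · exact hMtop ht
  -- the count
  have htri := S.triangle_count (a := ta) (b := ta) (c := tc) (by decide +kernel) (by decide +kernel)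
    (by decide +kernel) (by decide +kernel) (by decide +kernel) (by decide +kernel) not_conj
  rw [D.triple_sum _ _ isVal_tc, count_aac] at htri
  simp only [hall, List.map_cons, List.map_nil, List.sum_cons, List.sum_nil, va, vc, hc0, hm1, hpa,
    hpb, hpc, hm2, sc_one, hone, dot] at htri
  rw [e1] at htri
  have hidx := S.index_mod_nine (h9 S)
  have hcard : (Nat.card G : ℤ) = 36 * (S.φ.range.index : ℤ) := by
    rw [← S.φ.range.card_mul_index, ← Nat.card_congr (MonoidHom.ofInjective S.inj).toEquiv,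
      Nat.card_eq_fintype_card (α := El.cyc), card_cyc]
    push_cast
    ring
  have hq : ((S.φ.range.index : ℤ) : ℚ) * (1 + 1 / (ydeg pa : ℚ) + 1 / (ydeg pb : ℚ) +
      1 / (ydeg pc : ℚ) - 2 / (ydeg m1 : ℚ)) = 9 / 2 := by
    have hC : (36 : ℂ) * ((S.φ.range.index : ℤ) : ℂ) * (1 + 1 / (ydeg pa : ℂ) + 1 / (ydeg pb : ℂ) +
        1 / (ydeg pc : ℂ) - 2 / (ydeg m1 : ℂ)) = 162 := by
      rw [show (Nat.card G : ℂ) = ((Nat.card G : ℤ) : ℂ) from (Int.cast_natCast _).symm,
        hcard] at htri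
      push_cast at htri ⊢
      linear_combination htri
    have hQ : (36 : ℚ) * ((S.φ.range.index : ℤ) : ℚ) * (1 + 1 / (ydeg pa : ℚ) + 1 / (ydeg pb : ℚ) +
        1 / (ydeg pc : ℚ) - 2 / (ydeg m1 : ℚ)) = 162 := by
      apply Rat.cast_injective (α := ℂ)
      push_cast
      push_cast at hC
      exact hC
    linarith
  have h10 := arith (hnine pa (by simp) hpa) (hnine pb (by simp) hpb) (hnine pc (by simp) hpc)
    (hnl pa (by simp) hpa) (hnl pb (by simp) hpb) (hnl pc (by simp) hpc) e0
    (by omega) (by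
      have : 0 < S.φ.range.index := Nat.pos_of_ne_zero Subgroup.index_ne_zero_of_finite
      exact_mod_cast this) hq
  rw [h10] at hcard
  exact_mod_cast hcard

end Cyclic

end CfsgLib.TIThree
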