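import Cfsg.Agent.TIThree.Setting
import Cfsg.Agent.TIThree.Model
import Mathlib.GroupTheory.SchurZassenhaus

/-!
# Embedding a monomial normalizer into the affine monomial model
-/

set_option autoImplicit false

namespace CfsgLib.TIThree

open Subgroup

universe u

/-- The linear part of an element of the model. -/
def El.lin (e : El) (v : Fin 3 × Fin 3) : Fin 3 × Fin 3 := El.act e v - El.act e 0

/-- Being on a coordinate axis. -/
def IsAxis (u : Fin 3 × Fin 3) : Prop := u = (1, 0) ∨ u = (2, 0) ∨ u = (0, 1) ∨ u = (0, 2)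

instance : DecidablePred IsAxis := fun _ => inferInstanceAs (Decidable (_ ∨ _))

theorem exists_monomial : ∀ u v : Fin 3 × Fin 3, IsAxis u → IsAxis v → v ≠ u → v ≠ -u →
    ∃ e : El, El.act e 0 = 0 ∧ El.act e (1, 0) = u ∧ El.act e (0, 1) = v := by decide +kernel

theorem act_add : ∀ e : El, El.act e 0 = 0 → ∀ v w,
    El.act e (v + w) = El.act e v + El.act e w := by decide +kernel

theorem exists_translate : ∀ e : El, El.act e 0 = 0 → ∀ u, ∃ e' : El, ∀ v,
    El.act e' v = u + El.act e v := by decide +kernel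

theorem isTrans_of_lin : ∀ e : El, El.lin e (1, 0) = (1, 0) → El.lin e (0, 1) = (0, 1) →
    El.IsTrans e := by decide +kernel

theorem mem_pm_of_lin : ∀ e : El,
    (El.lin e (1, 0) = (1, 0) ∧ El.lin e (0, 1) = (0, 1)) ∨
      (El.lin e (1, 0) = (2, 0) ∧ El.lin e (0, 1) = (0, 2)) → e ∈ El.pm := by decide +kernel

theorem mem_klein_of_lin : ∀ e : El, El.lin e (1, 0) = (1, 0) ∨ El.lin e (1, 0) = (2, 0) →
    e ∈ El.klein := by decide +kernel

theorem mem_cyc_of_lin : ∀ e : El, El.lin e (1, 0) = (0, 1) → El.lin e (0, 1) = (2, 0) →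
    e ∈ El.cyc := by decide +kernel

theorem trans_le_cyc : ∀ e : El, El.IsTrans e → e ∈ El.cyc := by decide +kernel

variable {G : Type u} [Group G] [Finite G]

/-- A basis of an elementary abelian subgroup of order nine. -/
structure Basis9 (T : Subgroup G) where
  /-- the first generator -/
  a : G
  /-- the second generator -/
  b : G
  ha : a ∈ T
  hb : b ∈ T
  ha1 : a ≠ 1
  hb1 : b ∉ Subgroup.zpowers a
  card : Nat.card T = 9
  cube : ∀ t ∈ T, t ^ 3 = 1
  comm : ∀ s ∈ T, ∀ t ∈ T, s * t = t * s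

omit [Finite G] in
theorem pow_fin_add {a : G} (ha : a ^ 3 = 1) (i j : Fin 3) :
    a ^ ((i + j : Fin 3) : ℕ) = a ^ (i : ℕ) * a ^ (j : ℕ) := by
  rw [← pow_add, Fin.val_add, ← pow_mod_orderOf a ((i : ℕ) + (j : ℕ)),
    ← pow_mod_orderOf a (((i : ℕ) + (j : ℕ)) % 3)]
  congr 1
  exact Nat.mod_mod_of_dvd _ (orderOf_dvd_of_pow_eq_one ha)

namespace Basis9

variable {T : Subgroup G} (B : Basis9 T)

/-- The coordinate map. -/
def pt (v : Fin 3 × Fin 3) : G := B.a ^ (v.1 : ℕ) * B.b ^ (v.2 : ℕ)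

theorem pt_mem (v : Fin 3 × Fin 3) : B.pt v ∈ T := mul_mem (pow_mem B.ha _) (pow_mem B.hb _)

theorem pt_add (v w : Fin 3 × Fin 3) : B.pt (v + w) = B.pt v * B.pt w := by
  simp only [pt, Prod.fst_add, Prod.snd_add, pow_fin_add (B.cube _ B.ha),
    pow_fin_add (B.cube _ B.hb)]
  have := B.comm _ (pow_mem B.ha (w.1 : ℕ)) _ (pow_mem B.hb (v.2 : ℕ))
  rw [mul_assoc (B.a ^ (v.1 : ℕ)) (B.b ^ (v.2 : ℕ)), ← mul_assoc (B.b ^ (v.2 : ℕ)), ← this]
  simp only [mul_assoc]

theorem pt_zero : B.pt 0 = 1 := by simp [pt]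

theorem pt_neg (v : Fin 3 × Fin 3) : B.pt (-v) = (B.pt v)⁻¹ := by
  refine (inv_eq_of_mul_eq_one_right ?_).symm
  rw [← B.pt_add, add_neg_cancel, B.pt_zero]

theorem pt_bijective : Function.Bijective (fun v => (⟨B.pt v, B.pt_mem v⟩ : T)) := by
  haveI := Fintype.ofFinite T
  refine (Fintype.bijective_iff_injective_and_card _).mpr ⟨?_, ?_⟩
  · intro v w e
    have e' : B.pt v = B.pt w := congrArg Subtype.val e
    have h0 : B.pt (v - w) = 1 := by
      rw [sub_eq_add_neg, B.pt_add, B.pt_neg, e', mul_inv_cancel]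
    set d := v - w with hd
    suffices d = 0 from sub_eq_zero.mp this
    have h1 : B.b ^ (d.2 : ℕ) ∈ Subgroup.zpowers B.a := by
      rw [eq_inv_of_mul_eq_one_right h0]
      exact inv_mem (pow_mem (Subgroup.mem_zpowers _) _)
    have hd2 : d.2 = 0 := by
      by_contra hne
      refine B.hb1 ?_
      have hcop : ∀ i : Fin 3, i ≠ 0 → ∃ k : ℕ, k < 3 ∧ ((i : ℕ) * k) % 3 = 1 := by decide
      obtain ⟨k, -, hk⟩ := hcop d.2 hne
      have := pow_mem h1 k
      rwa [← pow_mul, ← pow_mod_orderOf, orderOf_eq_prime (hp := ⟨Nat.prime_three⟩)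
        (B.cube _ B.hb) (fun e => B.hb1 (by rw [e]; exact one_mem _)), hk, pow_one] at this
    have hd1 : d.1 = 0 := by
      by_contra hne
      rw [pt, hd2] at h0
      simp only [Fin.val_zero, pow_zero, mul_one] at h0
      have hdvd := orderOf_dvd_of_pow_eq_one h0
      rw [orderOf_eq_prime (hp := ⟨Nat.prime_three⟩) (B.cube _ B.ha) B.ha1] at hdvd
      have := d.1.isLt
      have : (d.1 : ℕ) = 0 := by omega
      exact hne (Fin.ext this)
    exact Prod.ext hd1 hd2
  · rw [← Nat.card_eq_fintype_card (α := T), B.card]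
    rfl

theorem pt_injective : Function.Injective B.pt := fun _ _ e =>
  B.pt_bijective.1 (Subtype.ext e)

theorem exists_pt {t : G} (ht : t ∈ T) : ∃ v, B.pt v = t := by
  obtain ⟨v, hv⟩ := B.pt_bijective.2 ⟨t, ht⟩
  exact ⟨v, congrArg Subtype.val hv⟩

theorem pt_a : B.pt (1, 0) = B.a := by simp [pt]

theorem pt_b : B.pt (0, 1) = B.b := by simp [pt]

theorem pt_a' : B.pt (2, 0) = B.a⁻¹ := by
  rw [show ((2, 0) : Fin 3 × Fin 3) = -(1, 0) by decide, B.pt_neg, B.pt_a]

theorem pt_b' : B.pt (0, 2) = B.b⁻¹ := by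
  rw [show ((0, 2) : Fin 3 × Fin 3) = -(0, 1) by decide, B.pt_neg, B.pt_b]

/-- Every element of `N` permutes the axes. -/
def Monomial (N : Subgroup G) : Prop :=
  ∀ n ∈ N, (∃ u, IsAxis u ∧ n * B.a * n⁻¹ = B.pt u) ∧ ∃ u, IsAxis u ∧ n * B.b * n⁻¹ = B.pt u

end Basis9

/-- The hypotheses: a self-centralising Sylow subgroup of order nine with monomial normalizer. -/
theorem exists_model (T : Subgroup G) (B : Basis9 T) (hidx : ¬ 3 ∣ T.index)
    (hC : Subgroup.centralizer (T : Set G) = T)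
    (hmon : B.Monomial (Subgroup.normalizer (T : Set G))) :
    ∃ f : Subgroup.normalizer (T : Set G) →* El, Function.Injective f ∧
      (∀ n, El.IsTrans (f n) ↔ (n : G) ∈ T) ∧
      (∀ n v, B.pt (El.lin (f n) v) = (n : G) * B.pt v * (n : G)⁻¹) := by
  haveI : Fact (Nat.Prime 3) := ⟨Nat.prime_three⟩
  set N := Subgroup.normalizer (T : Set G) with hN
  set Tn := T.subgroupOf N with hTn
  have hTN : T ≤ N := Subgroup.le_normalizer
  haveI : Tn.Normal := Subgroup.normal_in_normalizer
  have hcop : Nat.Coprime (Nat.card Tn) Tn.index := by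
    rw [Nat.card_congr (Subgroup.subgroupOfEquivOfLe hTN).toEquiv, B.card,
      show (9 : ℕ) = 3 ^ 2 from rfl]
    refine ((Nat.prime_three.coprime_iff_not_dvd).mpr fun h => hidx ?_).pow_left 2
    exact h.trans (Subgroup.relIndex_dvd_index_of_le hTN)
  obtain ⟨W, hW⟩ := Subgroup.exists_right_complement'_of_coprime hcop
  have hdec : ∀ n : N, ∃ t : Tn, ∃ w : W, n = (t : N) * (w : N) := fun n => by
    obtain ⟨⟨t, w⟩, h⟩ := hW.surjective n
    exact ⟨t, w, h.symm⟩
  choose pT pW hpTW using hdec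
  have huniq : ∀ (n : N) (t : Tn) (w : W), n = (t : N) * (w : N) → t = pT n := by
    intro n t w h
    have := hW.injective (a₁ := (t, w)) (a₂ := (pT n, pW n)) (h.symm.trans (hpTW n))
    exact congrArg Prod.fst this
  have hconjT : ∀ (n : N) {t : G}, t ∈ T → (n : G) * t * (n : G)⁻¹ ∈ T := fun n t ht =>
    (Subgroup.mem_normalizer_iff.mp n.2 t).mp ht
  -- the cocycle
  have hcoc : ∀ n n' : N, ((pT (n * n') : N) : G) =
      ((pT n : N) : G) * ((n : G) * ((pT n' : N) : G) * (n : G)⁻¹) := by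
    intro n n'
    have hmem : (pW n : N) * (pT n' : N) * (pW n : N)⁻¹ ∈ Tn :=
      Subgroup.Normal.conj_mem inferInstance _ (pT n').2 _
    have e := huniq (n * n') (pT n * ⟨_, hmem⟩) (pW n * pW n') (by
      conv_lhs => rw [hpTW n, hpTW n']
      simp only [Subgroup.coe_mul]
      group)
    rw [← e]
    simp only [Subgroup.coe_mul, Subgroup.coe_inv]
    congr 1
    have hn : (n : G) = ((pT n : N) : G) * ((pW n : N) : G) := by
      rw [← Subgroup.coe_mul, ← hpTW n]
    have hc := B.comm _ ((Subgroup.mem_subgroupOf).mp (pT n).2) _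
      (hconjT (pW n : N) ((Subgroup.mem_subgroupOf).mp (pT n').2))
    rw [hn]
    calc ((pW n : N) : G) * ((pT n' : N) : G) * ((pW n : N) : G)⁻¹
        = ((pT n : N) : G)⁻¹ * (((pT n : N) : G) *
            (((pW n : N) : G) * ((pT n' : N) : G) * ((pW n : N) : G)⁻¹)) := by group
    _ = ((pT n : N) : G)⁻¹ * ((((pW n : N) : G) * ((pT n' : N) : G) * ((pW n : N) : G)⁻¹) *
            ((pT n : N) : G)) := by rw [hc]
    _ = _ := by
      rw [← mul_assoc, B.comm _ (inv_mem ((Subgroup.mem_subgroupOf).mp (pT n).2)) _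
        (hconjT (pW n : N) ((Subgroup.mem_subgroupOf).mp (pT n').2))]
      have hc2 := B.comm _ ((Subgroup.mem_subgroupOf).mp (pT n).2) _
        (hconjT (pW n : N) ((Subgroup.mem_subgroupOf).mp (pT n').2))
      calc ((pW n : N) : G) * ((pT n' : N) : G) * ((pW n : N) : G)⁻¹ * ((pT n : N) : G)⁻¹ *
            ((pT n : N) : G)
          = ((pW n : N) : G) * ((pT n' : N) : G) * ((pW n : N) : G)⁻¹ := by group
      _ = ((pT n : N) : G) * (((pW n : N) : G) * ((pT n' : N) : G) * ((pW n : N) : G)⁻¹) *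
            ((pT n : N) : G)⁻¹ := by rw [hc2]; group
      _ = _ := by group
  have hex : ∀ n : N, ∃ e : El, ∀ v,
      B.pt (El.act e v) = ((pT n : N) : G) * ((n : G) * B.pt v * (n : G)⁻¹) := by
    intro n
    obtain ⟨⟨u, hu, hua⟩, w, hw, hwb⟩ := hmon n n.2
    have hne : w ≠ u ∧ w ≠ -u := by
      constructor
      · rintro rfl
        have := hua.trans hwb.symm
        simp only [mul_left_inj, mul_right_inj] at this
        exact B.hb1 (this ▸ Subgroup.mem_zpowers _)
      · rintro rfl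
        rw [B.pt_neg, ← hua, conj_inv] at hwb
        simp only [mul_left_inj, mul_right_inj] at hwb
        exact B.hb1 (hwb ▸ inv_mem (Subgroup.mem_zpowers _))
    obtain ⟨e0, he0, hea, heb⟩ := exists_monomial u w hu hw hne.1 hne.2
    obtain ⟨x, hx⟩ := B.exists_pt ((Subgroup.mem_subgroupOf).mp (pT n).2)
    obtain ⟨e, he⟩ := exists_translate e0 he0 x
    refine ⟨e, fun v => ?_⟩
    have hadd : ∀ v v', B.pt (El.act e0 v) = (n : G) * B.pt v * (n : G)⁻¹ →
        B.pt (El.act e0 v') = (n : G) * B.pt v' * (n : G)⁻¹ →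
        B.pt (El.act e0 (v + v')) = (n : G) * B.pt (v + v') * (n : G)⁻¹ := fun v v' h h' => by
      rw [act_add e0 he0, B.pt_add, B.pt_add, h, h']; group
    have h10 : B.pt (El.act e0 (1, 0)) = (n : G) * B.pt (1, 0) * (n : G)⁻¹ := by
      rw [hea, B.pt_a, hua]
    have h01 : B.pt (El.act e0 (0, 1)) = (n : G) * B.pt (0, 1) * (n : G)⁻¹ := by
      rw [heb, B.pt_b, hwb]
    have h00 : B.pt (El.act e0 0) = (n : G) * B.pt 0 * (n : G)⁻¹ := by
      rw [he0, B.pt_zero]; group
    have hall : B.pt (El.act e0 v) = (n : G) * B.pt v * (n : G)⁻¹ := by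
      obtain ⟨i, j⟩ := v
      fin_cases i <;> fin_cases j
      · exact h00
      · exact h01
      · exact hadd (0, 1) (0, 1) h01 h01
      · exact h10
      · exact hadd (1, 0) (0, 1) h10 h01
      · exact hadd (1, 0) (0, 1 + 1) h10 (hadd (0, 1) (0, 1) h01 h01)
      · exact hadd (1, 0) (1, 0) h10 h10
      · exact hadd (1 + 1, 0) (0, 1) (hadd (1, 0) (1, 0) h10 h10) h01
      · exact hadd (1 + 1, 0) (0, 1 + 1) (hadd (1, 0) (1, 0) h10 h10)
          (hadd (0, 1) (0, 1) h01 h01)
    rw [he, B.pt_add, hx, hall]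
  choose F hF using hex
  have hFm : ∀ n n' : N, F (n * n') = F n * F n' := fun n n' =>
    El.act_injective _ _ fun v => B.pt_injective (by
      rw [hF, El.act_mul, hF, hF, hcoc]
      simp only [Subgroup.coe_mul, mul_inv_rev]
      group)
  let f : N →* El := MonoidHom.mk' F hFm
  have hpT : ∀ n : N, (n : G) ∈ T → ((pT n : N) : G) = n := fun n hn => by
    have := huniq n ⟨n, hn⟩ 1 (by simp)
    rw [← this]
  have hlin : ∀ n v, B.pt (El.lin (F n) v) = (n : G) * B.pt v * (n : G)⁻¹ := by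
    intro n v
    rw [El.lin, sub_eq_add_neg, B.pt_add, B.pt_neg, hF, hF, B.pt_zero]
    have hc := B.comm _ ((Subgroup.mem_subgroupOf).mp (pT n).2) _ (hconjT n (B.pt_mem v))
    rw [hc]
    group
  refine ⟨f, ?_, fun n => ⟨fun h => ?_, fun h => ?_⟩, hlin⟩
  · rw [injective_iff_map_eq_one]
    intro n hn
    have hn' : F n = 1 := hn
    have hl : ∀ v, (n : G) * B.pt v * (n : G)⁻¹ = B.pt v := fun v => by
      rw [← hlin n v, hn', El.lin, El.act_one, El.act_one, sub_zero]
    have hmem : (n : G) ∈ T := by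
      rw [← hC]
      refine Subgroup.mem_centralizer_iff.mpr fun t ht => ?_
      obtain ⟨v, rfl⟩ := B.exists_pt ht
      exact (mul_inv_eq_iff_eq_mul.mp (hl v)).symm
    have h0 := hF n 0
    rw [hn', El.act_one, B.pt_zero, hpT n hmem] at h0
    apply Subtype.ext
    simpa using h0.symm
  · -- elements acting trivially
    rw [← hC]
    have htl : ∀ e : El, El.IsTrans e → ∀ v, El.lin e v = v := by decide +kernel
    refine Subgroup.mem_centralizer_iff.mpr fun t ht => ?_
    obtain ⟨v, rfl⟩ := B.exists_pt ht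
    have := hlin n v
    rw [htl _ (show El.IsTrans (F n) from h)] at this
    exact (mul_inv_eq_iff_eq_mul.mp this.symm).symm
  · have hl : ∀ v, El.lin (F n) v = v := fun v => B.pt_injective (by
      rw [hlin, B.comm _ h _ (B.pt_mem v), mul_inv_cancel_right])
    exact isTrans_of_lin _ (hl _) (hl _)

/-- The setting attached to a model. -/
theorem exists_setting (P : Sylow 3 G) (B : Basis9 (P : Subgroup G))
    (hcent : ∀ t ∈ (P : Subgroup G), t ≠ 1 →
      Subgroup.centralizer ({t} : Set G) ≤ Subgroup.normalizer ((P : Subgroup G) : Set G))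
    (f : Subgroup.normalizer ((P : Subgroup G) : Set G) →* El) (hf : Function.Injective f)
    (htr : ∀ n, El.IsTrans (f n) ↔ (n : G) ∈ (P : Subgroup G)) (K : Subgroup El)
    (hK : ∀ n, f n ∈ K)
    (hcard : Nat.card K ≤ Nat.card (Subgroup.normalizer ((P : Subgroup G) : Set G))) :
    ∃ S : Setting K G, S.φ.range = Subgroup.normalizer ((P : Subgroup G) : Set G) := by
  let g : Subgroup.normalizer ((P : Subgroup G) : Set G) →* K := f.codRestrict K hK
  have hg : Function.Bijective g := by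
    have hinj : Function.Injective g := fun x y e => hf (congrArg Subtype.val e)
    refine (Nat.bijective_iff_injective_and_card _).mpr ⟨hinj, le_antisymm ?_ hcard⟩
    exact Nat.card_le_card_of_injective g hinj
  let e : (Subgroup.normalizer ((P : Subgroup G) : Set G)) ≃* K := MulEquiv.ofBijective g hg
  let φ : K →* G := (Subgroup.normalizer ((P : Subgroup G) : Set G)).subtype.comp e.symm.toMonoidHom
  have hrange : φ.range = (Subgroup.normalizer ((P : Subgroup G) : Set G)) := by
    ext x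
    refine ⟨?_, fun hx => ⟨e ⟨x, hx⟩, ?_⟩⟩
    · rintro ⟨k, rfl⟩
      exact (e.symm k).2
    · simp [φ]
  have hsymm : ∀ k : K, f (e.symm k) = (k : El) := fun k =>
    congrArg Subtype.val (e.apply_symm_apply k)
  have hcube : ∀ k : K, k ^ 3 = 1 ↔ φ k ∈ (P : Subgroup G) := fun k => by
    rw [show φ k = ((e.symm k : (Subgroup.normalizer ((P : Subgroup G) : Set G))) : G) from rfl, ← htr, hsymm, El.isTrans_iff_cube,
      ← SubmonoidClass.coe_pow, OneMemClass.coe_eq_one]
  refine ⟨{ φ := φ, inj := Subtype.val_injective.comp e.symm.injective, comm3 := ?_, pow4 := ?_,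
            cent := ?_, norm := ?_, sylow := ?_ }, hrange⟩
  · intro x y hx hy
    refine Subtype.ext (El.isTrans_comm _ _ ?_ ?_) <;>
      rw [El.isTrans_iff_cube, ← SubmonoidClass.coe_pow]
    · rw [hx, OneMemClass.coe_one]
    · rw [hy, OneMemClass.coe_one]
  · intro x
    apply Subtype.ext
    rw [← pow_mul, SubmonoidClass.coe_pow, El.pow_twelve, OneMemClass.coe_one]
  · intro x hx hx1 g hg
    rw [hrange]
    refine hcent _ ((hcube x).mp hx) (fun h => hx1 ?_) (Subgroup.mem_centralizer_singleton_iff.mpr hg)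
    exact (Subtype.val_injective.comp e.symm.injective) (h.trans φ.map_one.symm)
  · intro g hg
    rw [hrange]
    have hsub : ∀ t ∈ (P : Subgroup G), g * t * g⁻¹ ∈ (P : Subgroup G) := by
      intro t ht
      have htN : t ∈ (Subgroup.normalizer ((P : Subgroup G) : Set G)) := Subgroup.le_normalizer ht
      rw [← hrange] at htN
      obtain ⟨x, rfl⟩ := htN
      obtain ⟨y, hy, h⟩ := hg x ((hcube x).mpr ht)
      rw [h]
      exact (hcube y).mp hy
    refine Subgroup.mem_normalizer_iff.mpr fun t => ⟨hsub t, fun h => ?_⟩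
    have hsur : Function.Surjective (fun s : (P : Subgroup G) => (⟨g * s * g⁻¹, hsub s s.2⟩ : (P : Subgroup G))) :=
      Finite.surjective_of_injective fun s s' h => Subtype.ext (by simpa using congrArg Subtype.val h)
    obtain ⟨s, hs⟩ := hsur ⟨_, h⟩
    have : (s : G) = t := by simpa using congrArg Subtype.val hs
    exact this ▸ s.2
  · intro Q hQ
    haveI : Fact (Nat.Prime 3) := ⟨Nat.prime_three⟩
    obtain ⟨R, hR⟩ := hQ.exists_le_sylow
    obtain ⟨g, hg⟩ := MulAction.exists_smul_eq G R P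
    refine ⟨g, fun a ha => ?_⟩
    have h1 : MulAut.conj g a ∈ (P : Subgroup G) := by
      rw [← hg]
      exact Subgroup.smul_mem_pointwise_smul _ (MulAut.conj g) _ (hR ha)
    have h2 : MulAut.conj g a ∈ (Subgroup.normalizer ((P : Subgroup G) : Set G)) := Subgroup.le_normalizer h1
    rw [← hrange] at h2
    obtain ⟨x, hx⟩ := h2
    exact ⟨x, (hcube x).mpr (by rw [hx]; exact h1), hx⟩

end CfsgLib.TIThree
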