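import Mathlib

/-!
# Decompositions of vectors with prescribed Gram matrix into signed unit columns

An enumerator, used with kernel `decide`, for families of integer valued functions on a finite
index type with entries in `{-1, 0, 1}`, a prescribed value at a distinguished index and a
prescribed Gram matrix.
-/

set_option autoImplicit false

namespace CfsgLib.TIThree.Rows

/-- Scalar product of integer lists. -/
def dot : List ℤ → List ℤ → ℤ
  | a :: as, b :: bs => a * b + dot as bs
  | _, _ => 0

/-- Lists of length `k` with entries in `{-1,0,1}` and at most `r` nonzero entries, with the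
number of unused units. -/
def assign : ℕ → ℕ → List (List ℤ × ℕ)
  | 0, r => [([], r)]
  | k + 1, 0 => [(List.replicate (k + 1) 0, 0)]
  | k + 1, r + 1 =>
    (assign k (r + 1)).map (fun p => (0 :: p.1, p.2)) ++
      ((assign k r).map (fun p => (1 :: p.1, p.2)) ++ (assign k r).map (fun p => (-1 :: p.1, p.2)))

/-- A comparison key for columns. -/
def key : List ℤ → ℕ
  | [] => 0
  | a :: as => (a + 1).toNat + 3 * key as

/-- Insert into a sorted list. -/
def ins (a : List ℤ) : List (List ℤ) → List (List ℤ)
  | [] => [a]
  | b :: bs => if key a ≤ key b then a :: b :: bs else b :: ins a bs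

/-- Sorting of columns. -/
def sortCols : List (List ℤ) → List (List ℤ)
  | [] => []
  | a :: as => ins a (sortCols as)

/-- Keep one copy of each state. -/
def uniq : List (List (List ℤ)) → List (List (List ℤ))
  | [] => []
  | a :: as => if (uniq as).contains a then uniq as else a :: uniq as

/-- The specification of one row: value at the distinguished index, squared norm, products with
the earlier rows. -/
structure Spec where
  /-- value at the distinguished index -/
  base : ℤ
  /-- squared norm -/
  norm : ℕ
  /-- products with earlier rows -/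
  prods : List ℤ

/-- Check the products of a new row with the earlier ones. -/
def check (st : List (List ℤ)) (vals : List ℤ) : ℕ → List ℤ → Bool
  | _, [] => true
  | j, t :: ts => (dot (st.map fun c => c.getD j 0) vals == t) && check st vals (j + 1) ts

/-- One step of the enumeration on a single state. -/
def stepOne (s : Spec) (st : List (List ℤ)) : List (List (List ℤ)) :=
  match st with
  | [] => []
  | t :: cols =>
    ((assign cols.length (s.norm - s.base.natAbs ^ 2)).filter
        (fun p => check st (s.base :: p.1) 0 s.prods)).map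
      fun p => (t ++ [s.base]) ::
        sortCols (List.zipWith (fun c x => c ++ [x]) cols p.1 ++
          List.replicate p.2 (List.replicate s.prods.length 0 ++ [1]))

/-- One step of the enumeration. -/
def step (s : Spec) (S : List (List (List ℤ))) : List (List (List ℤ)) :=
  uniq (S.flatMap (stepOne s))

/-- The enumeration. -/
def enum (specs : List Spec) : List (List (List ℤ)) :=
  specs.foldl (fun S s => step s S) [[[]]]

theorem perm_ins (a : List ℤ) : ∀ l, (ins a l).Perm (a :: l)
  | [] => .refl _
  | b :: bs => by
    unfold ins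
    split
    · exact .refl _
    · exact ((perm_ins a bs).cons b).trans (.swap a b bs)

theorem perm_sortCols : ∀ l, (sortCols l).Perm l
  | [] => .refl _
  | a :: as => (perm_ins a _).trans ((perm_sortCols as).cons a)

theorem mem_uniq {a : List (List ℤ)} : ∀ {l}, a ∈ l → a ∈ uniq l
  | b :: bs, h => by
    unfold uniq
    rcases List.mem_cons.mp h with rfl | h'
    · split
      · next hc => exact List.contains_iff_mem.mp hc
      · exact List.mem_cons_self
    · split
      · exact mem_uniq h'
      · exact List.mem_cons_of_mem _ (mem_uniq h')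

theorem mem_assign : ∀ (l : List ℤ) (r : ℕ), (∀ x ∈ l, x = 0 ∨ x = 1 ∨ x = -1) →
    (l.map fun x => x.natAbs ^ 2).sum ≤ r →
    (l, r - (l.map fun x => x.natAbs ^ 2).sum) ∈ assign l.length r
  | [], r, _, _ => by simp [assign]
  | x :: l, r, hx, hr => by
    have hl : ∀ y ∈ l, y = 0 ∨ y = 1 ∨ y = -1 := fun y hy => hx y (List.mem_cons_of_mem _ hy)
    simp only [List.map_cons, List.sum_cons] at hr ⊢
    rcases r with _ | r
    · have hz : ∀ y ∈ x :: l, y = 0 := fun y hy => by
        have : y.natAbs ^ 2 ≤ x.natAbs ^ 2 + (l.map fun x => x.natAbs ^ 2).sum := by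
          rcases List.mem_cons.mp hy with rfl | h
          · omega
          · have := List.single_le_sum (fun z _ => Nat.zero_le z) _
              (List.mem_map_of_mem (f := fun x : ℤ => x.natAbs ^ 2) h)
            omega
        have h0 : y.natAbs ^ 2 = 0 := by omega
        simpa using h0
      have hl0 : x :: l = List.replicate (l.length + 1) 0 := List.eq_replicate_iff.mpr ⟨rfl, hz⟩
      simp only [List.length_cons, assign, List.mem_singleton, Prod.mk.injEq]
      exact ⟨hl0, by omega⟩
    · simp only [List.length_cons, assign, List.mem_append, List.mem_map, Prod.mk.injEq]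
      rcases hx x List.mem_cons_self with rfl | rfl | rfl
      · exact Or.inl ⟨_, mem_assign l (r + 1) hl (by simpa using hr), by simp, by simp⟩
      · have hr' : (l.map fun x => x.natAbs ^ 2).sum ≤ r := by simp at hr; omega
        exact Or.inr (Or.inl ⟨_, mem_assign l r hl hr', rfl, by simp; omega⟩)
      · have hr' : (l.map fun x => x.natAbs ^ 2).sum ≤ r := by simp at hr; omega
        exact Or.inr (Or.inr ⟨_, mem_assign l r hl hr', rfl, by simp; omega⟩)

theorem exists_perm_of_map_perm {α β : Type*} (g : α → β) :
    ∀ (l : List α) (M : List β), M.Perm (l.map g) → ∃ l' : List α, l'.Perm l ∧ l'.map g = M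
  | l, [], h => ⟨[], by
      have := List.map_eq_nil_iff.mp h.symm.eq_nil
      rw [this], rfl⟩
  | l, b :: M, h => by
    classical
    obtain ⟨a, ha, hab⟩ := List.mem_map.mp (h.subset List.mem_cons_self)
    obtain ⟨s, t, rfl⟩ := List.append_of_mem ha
    have h' : M.Perm ((s ++ t).map g) := by
      refine List.Perm.cons_inv (a := b) (h.trans ?_)
      rw [← hab]
      exact ((List.perm_middle (a := a) (l₁ := s) (l₂ := t)).map g)
    obtain ⟨l', hl', hmap⟩ := exists_perm_of_map_perm g (s ++ t) M h'
    exact ⟨a :: l', (hl'.cons a).trans List.perm_middle.symm, by simp [hmap, hab]⟩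

section Soundness

variable {ι : Type*} [Fintype ι]

/-- The column of an index with a sign. -/
def col (F : List (ι → ℤ)) (p : ι × ℤ) : List ℤ := F.map fun f => p.2 * f p.1

/-- A state describes the given rows: the list carries the indices other than `o` where some row
is nonzero, with signs. -/
def Realized (o : ι) (F : List (ι → ℤ)) (st : List (List ℤ)) (l : List (ι × ℤ)) : Prop :=
  (∀ p ∈ l, p.2 = 1 ∨ p.2 = -1) ∧ (o :: l.map Prod.fst).Nodup ∧
    st = col F (o, 1) :: l.map (col F) ∧
    ∀ x, x ∉ o :: l.map Prod.fst → ∀ f ∈ F, f x = 0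

/-- A row satisfies its specification relative to earlier rows. -/
def Fits (o : ι) (F : List (ι → ℤ)) (s : Spec) (g : ι → ℤ) : Prop :=
  g o = s.base ∧ (∀ x, g x = 0 ∨ g x = 1 ∨ g x = -1) ∧ ∑ x, g x * g x = s.norm ∧
    F.map (fun f => ∑ x, f x * g x) = s.prods

theorem dot_map {α : Type*} (a b : α → ℤ) : ∀ l : List α,
    dot (l.map a) (l.map b) = (l.map fun x => a x * b x).sum
  | [] => rfl
  | x :: l => by simp [dot, dot_map a b l]

theorem sum_eq_list [DecidableEq ι] (L : List ι) (hL : L.Nodup) (h : ι → ℤ)
    (h0 : ∀ x, x ∉ L → h x = 0) : ∑ x, h x = (L.map h).sum := by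
  rw [← List.sum_toFinset h hL]
  exact (Finset.sum_subset (Finset.subset_univ _) fun x _ hx => h0 x (by simpa using hx)).symm

theorem check_eq_true (st : List (List ℤ)) (vals : List ℤ) : ∀ (ts : List ℤ) (j : ℕ),
    (∀ i (hi : i < ts.length), dot (st.map fun c => c.getD (j + i) 0) vals = ts[i]) →
    check st vals j ts = true
  | [], _, _ => rfl
  | t :: ts, j, h => by
    simp only [check, Bool.and_eq_true, beq_iff_eq]
    refine ⟨by simpa only [Nat.add_zero, List.getElem_cons_zero] using h 0 (Nat.succ_pos _),
      check_eq_true st vals ts (j + 1) fun i hi => ?_⟩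
    have := h (i + 1) (by simpa using hi)
    simpa [add_comm, add_left_comm, add_assoc] using this

theorem step_sound (o : ι) (F : List (ι → ℤ)) (s : Spec) (g : ι → ℤ) (hg : Fits o F s g)
    {st : List (List ℤ)} {l : List (ι × ℤ)} (h : Realized o F st l) :
    ∃ st' ∈ stepOne s st, ∃ l', Realized o (F ++ [g]) st' l' := by
  classical
  obtain ⟨hgo, hgv, hgn, hgp⟩ := hg
  obtain ⟨hsgn, hnd, rfl, hout⟩ := h
  set L : List ι := o :: l.map Prod.fst with hL
  set new : List ι := (Finset.univ.filter fun x => g x ≠ 0 ∧ x ∉ L).toList with hnew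
  have hnewmem : ∀ x, x ∈ new ↔ g x ≠ 0 ∧ x ∉ L := by simp [hnew]
  set vals : List ℤ := l.map fun p => p.2 * g p.1 with hvals
  set ext : List (ι × ℤ) := new.map fun x => (x, g x) with hext
  have hvals_mem : ∀ x ∈ vals, x = 0 ∨ x = 1 ∨ x = -1 := by
    intro x hx
    obtain ⟨p, hp, rfl⟩ := List.mem_map.mp hx
    rcases hsgn p hp with e | e <;> rcases hgv p.1 with e' | e' | e' <;> simp [e, e']
  have hLnew : (L ++ new).Nodup := by
    refine List.nodup_append.mpr ⟨hnd, Finset.nodup_toList _, fun a ha b hb e => ?_⟩
    exact ((hnewmem b).mp hb).2 (e ▸ ha)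
  -- the norm equation
  have hsq : ∀ x : ℤ, x * x = ((x.natAbs ^ 2 : ℕ) : ℤ) := fun x => by
    push_cast; rw [sq_abs, pow_two]
  have hnorm : (s.norm : ℤ) = (s.base.natAbs ^ 2 : ℕ) +
      ((vals.map fun x => x.natAbs ^ 2).sum : ℕ) + (new.length : ℕ) := by
    rw [← hgn, sum_eq_list (L ++ new) hLnew _ (fun x hx => by
      have hx' : g x = 0 := by
        by_contra hne
        simp only [List.mem_append, not_or] at hx
        exact hx.2 ((hnewmem x).mpr ⟨hne, hx.1⟩)
      rw [hx', mul_zero])]
    rw [List.map_append, List.sum_append, hL, List.map_cons, List.sum_cons, hgo, hsq]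
    congr 1
    · congr 1
      rw [Nat.cast_list_sum, hvals, List.map_map, List.map_map, List.map_map]
      refine congrArg List.sum (List.map_congr_left fun p hp => ?_)
      simp only [Function.comp]
      rw [← hsq]
      rcases hsgn p hp with e | e <;> simp [e]
    · rw [show (new.map fun x => g x * g x) = new.map fun _ => (1 : ℤ) from
        List.map_congr_left fun x hx => by
          rcases hgv x with e | e | e
          · exact absurd e ((hnewmem x).mp hx).1
          · simp [e]
          · simp [e]]
      simp
  have hnorm' : s.norm = s.base.natAbs ^ 2 + (vals.map fun x => x.natAbs ^ 2).sum + new.length := by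
    exact_mod_cast hnorm
  have hmem := mem_assign vals (s.norm - s.base.natAbs ^ 2) hvals_mem (by omega)
  have hrem : s.norm - s.base.natAbs ^ 2 - (vals.map fun x => x.natAbs ^ 2).sum = new.length := by
    omega
  rw [hrem, show vals.length = (l.map (col F)).length by simp [hvals]] at hmem
  -- the products
  have hlenF : s.prods.length = F.length := by rw [← hgp, List.length_map]
  have hcheck : check (col F (o, 1) :: l.map (col F)) (s.base :: vals) 0 s.prods = true := by
    refine check_eq_true _ _ _ _ fun i hi => ?_
    have hiF : i < F.length := hlenF ▸ hi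
    have hget : s.prods[i] = ∑ x, F[i] x * g x := by simp [← hgp]
    rw [hget, sum_eq_list L hnd _ (fun x hx => by
      rw [hout x hx _ (List.getElem_mem hiF), zero_mul])]
    have e1 : (col F (o, 1) :: l.map (col F)).map (fun c => c.getD (0 + i) 0) =
        ((o, (1 : ℤ)) :: l).map fun p => p.2 * F[i] p.1 := by
      rw [zero_add, ← List.map_cons, List.map_map]
      refine List.map_congr_left fun p _ => ?_
      simp only [Function.comp, col, List.getD_eq_getElem?_getD, List.getElem?_map,
        List.getElem?_eq_getElem hiF, Option.map_some, Option.getD_some]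
    have e2 : s.base :: vals = ((o, (1 : ℤ)) :: l).map fun p => p.2 * g p.1 := by
      simp [hvals, hgo]
    rw [e1, e2, dot_map, hL, show o :: l.map Prod.fst = ((o, (1 : ℤ)) :: l).map Prod.fst from rfl,
      List.map_map]
    refine congrArg List.sum (List.map_congr_left fun p hp => ?_)
    rcases List.mem_cons.mp hp with rfl | hp'
    · simp
    · rcases hsgn p hp' with e | e <;> simp [e]
  refine ⟨_, List.mem_map.mpr ⟨_, List.mem_filter.mpr ⟨hmem, hcheck⟩, rfl⟩, ?_⟩
  -- the new list
  have hcols : List.zipWith (fun c x => c ++ [x]) (l.map (col F)) vals ++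
      List.replicate new.length (List.replicate s.prods.length 0 ++ [1]) =
      (l ++ ext).map (col (F ++ [g])) := by
    rw [List.map_append]
    congr 1
    · rw [hvals, List.zipWith_map, List.zipWith_self]
      simp [col]
    · rw [hext, List.map_map]
      symm
      refine List.eq_replicate_iff.mpr ⟨by simp, fun c hc => ?_⟩
      obtain ⟨x, hx, rfl⟩ := List.mem_map.mp hc
      simp only [Function.comp, col, List.map_append, List.map_cons, List.map_nil]
      congr 1
      · refine List.eq_replicate_iff.mpr ⟨by simp [hlenF], fun b hb => ?_⟩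
        obtain ⟨f, hf, rfl⟩ := List.mem_map.mp hb
        rw [hout x ((hnewmem x).mp hx).2 f hf, mul_zero]
      · rcases hgv x with e | e | e
        · exact absurd e ((hnewmem x).mp hx).1
        · simp [e]
        · simp [e]
  obtain ⟨l', hl', hmap⟩ := exists_perm_of_map_perm (col (F ++ [g])) (l ++ ext)
    (sortCols (List.zipWith (fun c x => c ++ [x]) (l.map (col F)) vals ++
      List.replicate new.length (List.replicate s.prods.length 0 ++ [1])))
    (by rw [← hcols]; exact perm_sortCols _)
  have hfst : (o :: l'.map Prod.fst).Perm (L ++ new) := by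
    refine ((hl'.map Prod.fst).cons o).trans ?_
    rw [List.map_append, hext, List.map_map, hL, List.cons_append]
    simp [Function.comp_def]
  refine ⟨l', fun p hp => ?_, hfst.nodup_iff.mpr hLnew, ?_, fun x hx f hf => ?_⟩
  · rcases List.mem_append.mp (hl'.subset hp) with h | h
    · exact hsgn p h
    · obtain ⟨x, hx, rfl⟩ := List.mem_map.mp h
      rcases hgv x with e | e | e
      · exact absurd e ((hnewmem x).mp hx).1
      · exact Or.inl e
      · exact Or.inr e
  · rw [hmap]
    congr 1
    simp [col, hgo]
  · have hx' : x ∉ L ++ new := fun h => hx (hfst.symm.subset h)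
    simp only [List.mem_append, not_or] at hx'
    rcases List.mem_append.mp hf with h | h
    · exact hout x hx'.1 f h
    · rw [List.mem_singleton.mp h]
      by_contra hne
      exact hx'.2 ((hnewmem x).mpr ⟨hne, hx'.1⟩)

/-- All rows of a family fit their specifications. -/
def AllFit (o : ι) : List (ι → ℤ) → List Spec → List (ι → ℤ) → Prop
  | F, s :: ss, g :: gs => Fits o F s g ∧ AllFit o (F ++ [g]) ss gs
  | _, [], [] => True
  | _, _, _ => False

theorem foldl_sound (o : ι) : ∀ (ss : List Spec) (gs F : List (ι → ℤ))
    (S : List (List (List ℤ))), AllFit o F ss gs → (∃ st ∈ S, ∃ l, Realized o F st l) →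
    ∃ st ∈ ss.foldl (fun S s => step s S) S, ∃ l, Realized o (F ++ gs) st l
  | [], [], F, S, _, h => by simpa using h
  | [], _ :: _, _, _, h, _ => h.elim
  | _ :: _, [], _, _, h, _ => h.elim
  | s :: ss, g :: gs, F, S, h, hS => by
    obtain ⟨st, hst, l, hl⟩ := hS
    obtain ⟨st', hst', hl'⟩ := step_sound o F s g h.1 hl
    have := foldl_sound o ss gs (F ++ [g]) (step s S) h.2
      ⟨st', mem_uniq (List.mem_flatMap.mpr ⟨st, hst, hst'⟩), hl'⟩
    simpa using this

/-- Every family fitting the specification is realised by an enumerated state. -/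
theorem enum_sound (o : ι) (ss : List Spec) (gs : List (ι → ℤ)) (h : AllFit o [] ss gs) :
    ∃ st ∈ enum ss, ∃ l, Realized o gs st l := by
  have := foldl_sound o ss gs [] [[[]]] h ⟨[[]], by simp, [], by simp [Realized, col]⟩
  simpa [enum] using this

end Soundness

theorem enum_dih_four :
    (enum [⟨1, 4, []⟩, ⟨1, 4, [1]⟩, ⟨0, 4, [1, -2]⟩, ⟨0, 4, [1, 1, -2]⟩]).length = 6 := by
  decide +kernel

end CfsgLib.TIThree.Rows
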