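import Cfsg.Agent.TIThree.Setting
import Cfsg.Agent.TIThree.Rows
import Cfsg.Agent.TIThree.Model
import Cfsg.Agent.Chars.Basic.Linear

/-!
# Decompositions attached to a family of virtual characters on the three-singular elements
-/

set_option autoImplicit false

namespace CfsgLib.TIThree

open scoped ComplexConjugate
open Cfsg CfsgLib.Chars Rows

universe u

/-- The numerical conditions on a family of vectors. -/
def famCheck {K : Type} [Fintype K] : List (K → ℤ) → List (K → ℤ) → List Spec → Bool
  | prev, v :: vs, s :: ss =>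
    decide ((∑ k, v k) = (Fintype.card K : ℤ) * s.base ∧
      (∑ k, v k * v k) = (Fintype.card K : ℤ) * (s.norm : ℤ) ∧
      (prev.map fun f => ∑ k, f k * v k) = s.prods.map (fun t => (Fintype.card K : ℤ) * t) ∧
      s.base.natAbs ≤ 1 ∧ s.norm ≤ s.base.natAbs ^ 2 + 4) && famCheck (prev ++ [v]) vs ss
  | _, [], [] => true
  | _, _, _ => false

/-- A family of integer valued virtual characters supported on three-singular elements. -/
structure Fam (K : Type) [Group K] [Fintype K] where
  /-- the vectors -/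
  vs : List (K → ℤ)
  /-- their numerical invariants -/
  specs : List Spec
  gen : ∀ v ∈ vs, IsIntGen K v
  sing : ∀ v ∈ vs, ∀ k : K, k ^ 4 = 1 → v k = 0
  cls : ∀ v ∈ vs, ∀ k h : K, v (h * k * h⁻¹) = v k
  ok : famCheck [] vs specs = true

variable {G : Type u} [Group G] [Fintype G] {K : Type} [Group K] [Fintype K] [DecidableEq K]

/-- The integer coefficient. -/
noncomputable def coefZ (S : Setting K G) (v : K → ℤ) (χ : IrrCharacter G) : ℤ :=
  ⌊(coef S.φ v (χ : G → ℂ)).re⌋

omit [DecidableEq K] in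
theorem coefZ_spec (S : Setting K G) {v : K → ℤ} (hv : IsIntGen K v) (χ : IrrCharacter G) :
    (coefZ S v χ : ℂ) = coef S.φ v (χ : G → ℂ) := by
  obtain ⟨m, hm⟩ := exists_coef_int S.φ hv χ
  simp [coefZ, hm]

omit [DecidableEq K] in
theorem degree_int (χ : IrrCharacter G) : (χ : G → ℂ) 1 = ((charDegree (χ : G → ℂ) : ℤ) : ℂ) := by
  rw [← coe_charDegree]; simp

theorem fits_of_check (S : Setting K G) (prev : List (K → ℤ)) (v : K → ℤ) (s : Spec)
    (hprev : ∀ f ∈ prev, IsIntGen K f ∧ (∀ k : K, k ^ 4 = 1 → f k = 0))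
    (hgen : IsIntGen K v) (hsing : ∀ k : K, k ^ 4 = 1 → v k = 0)
    (hcls : ∀ k h : K, v (h * k * h⁻¹) = v k)
    (hb : (∑ k, v k) = (Fintype.card K : ℤ) * s.base)
    (hn : (∑ k, v k * v k) = (Fintype.card K : ℤ) * (s.norm : ℤ))
    (hp : (prev.map fun f => ∑ k, f k * v k) = s.prods.map (fun t => (Fintype.card K : ℤ) * t))
    (hb1 : s.base.natAbs ≤ 1) (hn4 : s.norm ≤ s.base.natAbs ^ 2 + 4) :
    Fits (oneChar G) (prev.map (coefZ S)) s (coefZ S v) := by
  classical
  have hK : (Nat.card K : ℂ) ≠ 0 := Nat.cast_ne_zero.mpr Nat.card_pos.ne'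
  have hprod : ∀ f, IsIntGen K f → (∀ k : K, k ^ 4 = 1 → f k = 0) →
      (Fintype.card K : ℤ) * ∑ χ : IrrCharacter G, coefZ S f χ * coefZ S v χ = ∑ k, f k * v k := by
    intro f hf hf0
    have h := S.sum_coef_mul_conj f v hf0 hcls
    simp only [← coefZ_spec S hf, ← coefZ_spec S hgen, map_intCast] at h
    have h' : ((Fintype.card K : ℤ) : ℂ) * (∑ χ : IrrCharacter G,
        (coefZ S f χ : ℂ) * (coefZ S v χ : ℂ)) = ((∑ k, f k * v k : ℤ) : ℂ) := by
      rw [h, Int.cast_natCast, ← Nat.card_eq_fintype_card, mul_inv_cancel_left₀ hK]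
    exact_mod_cast h'
  have hK' : (Fintype.card K : ℤ) ≠ 0 := by
    exact_mod_cast Fintype.card_ne_zero
  have hnorm : ∑ χ : IrrCharacter G, coefZ S v χ * coefZ S v χ = s.norm :=
    mul_left_cancel₀ hK' ((hprod v hgen hsing).trans hn)
  have hone : coefZ S v (oneChar G) = s.base := by
    have h : (coefZ S v (oneChar G) : ℂ) = (s.base : ℂ) := by
      rw [coefZ_spec S hgen, coef_eq]
      simp only [oneChar_apply, one_mul]
      rw [← Int.cast_sum, hb, Int.cast_mul, Int.cast_natCast, ← Nat.card_eq_fintype_card,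
        inv_mul_cancel_left₀ hK]
    exact_mod_cast h
  refine ⟨hone, ?_, hnorm, ?_⟩
  · intro x
    by_contra hx
    simp only [not_or] at hx
    have h2 : 2 ≤ (coefZ S v x).natAbs := by omega
    have hxo : x ≠ oneChar G := fun e => by
      rw [e, hone] at h2; omega
    -- at most four units are left, so `x` is the only other constituent
    have hrest : ∀ y, y ≠ x → y ≠ oneChar G → coefZ S v y = 0 := by
      intro y hyx hyo
      by_contra hy
      have hle : ∑ χ ∈ ({oneChar G, x, y} : Finset (IrrCharacter G)),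
          coefZ S v χ * coefZ S v χ ≤ s.norm := by
        rw [← hnorm]
        exact Finset.sum_le_sum_of_subset_of_nonneg (Finset.subset_univ _)
          fun χ _ _ => mul_self_nonneg _
      rw [Finset.sum_insert (by simp [hxo.symm, Ne.symm hyo]), Finset.sum_pair (Ne.symm hyx),
        hone] at hle
      have hy1 : 1 ≤ coefZ S v y * coefZ S v y := by
        have := mul_self_pos.mpr hy
        omega
      have hx4 : 4 ≤ coefZ S v x * coefZ S v x := by
        rw [← Int.natAbs_mul_self]
        exact_mod_cast Nat.mul_le_mul h2 h2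
      have hbb : s.base * s.base = ((s.base.natAbs ^ 2 : ℕ) : ℤ) := by
        rw [pow_two, Int.natAbs_mul_self]
      omega
    have h0 := S.sum_coef_mul_regular v hsing (g := 1) (one_pow 4)
    simp only [← coefZ_spec S hgen, degree_int] at h0
    have h0' : ∑ χ : IrrCharacter G, coefZ S v χ * (charDegree (χ : G → ℂ) : ℤ) = 0 := by
      exact_mod_cast h0
    rw [← Finset.sum_subset (Finset.subset_univ ({oneChar G, x} : Finset (IrrCharacter G)))
      (fun y _ hy => by
        simp only [Finset.mem_insert, Finset.mem_singleton, not_or] at hy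
        rw [hrest y hy.2 hy.1, zero_mul]), Finset.sum_pair hxo.symm, hone] at h0'
    have hd : 1 ≤ (charDegree (x : G → ℂ) : ℤ) := by exact_mod_cast charDegree_pos x
    have h1 : (charDegree ((oneChar G : IrrCharacter G) : G → ℂ) : ℤ) = 1 := by
      exact_mod_cast charDegree_eq_of_map_one (n := 1) (by rw [oneChar_apply, Nat.cast_one])
    rw [h1, mul_one] at h0'
    have habs : (coefZ S v x * (charDegree (x : G → ℂ) : ℤ)).natAbs = s.base.natAbs := by
      rw [show coefZ S v x * (charDegree (x : G → ℂ) : ℤ) = -s.base by linarith, Int.natAbs_neg]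
    rw [Int.natAbs_mul, Int.natAbs_natCast] at habs
    have := Nat.mul_le_mul h2 (charDegree_pos x)
    omega
  · rw [List.map_map]
    have e : (prev.map fun f => ∑ k, f k * v k) =
        (prev.map fun f => ∑ χ : IrrCharacter G, coefZ S f χ * coefZ S v χ).map
          (fun t => (Fintype.card K : ℤ) * t) := by
      rw [List.map_map]
      exact List.map_congr_left fun f hf => (hprod f (hprev f hf).1 (hprev f hf).2).symm
    rw [e] at hp
    exact List.map_injective_iff.mpr (fun a b h => mul_left_cancel₀ hK' h) hp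

theorem allFit_of_check (S : Setting K G) : ∀ (vs : List (K → ℤ)) (ss : List Spec)
    (prev : List (K → ℤ)),
    (∀ f ∈ prev, IsIntGen K f ∧ (∀ k : K, k ^ 4 = 1 → f k = 0)) →
    (∀ v ∈ vs, IsIntGen K v ∧ (∀ k : K, k ^ 4 = 1 → v k = 0) ∧ ∀ k h : K, v (h * k * h⁻¹) = v k) →
    famCheck prev vs ss = true →
    AllFit (oneChar G) (prev.map (coefZ S)) ss (vs.map (coefZ S))
  | [], [], _, _, _, _ => trivial
  | [], _ :: _, _, _, _, h => by simp [famCheck] at h
  | _ :: _, [], _, _, _, h => by simp [famCheck] at h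
  | v :: vs, s :: ss, prev, hprev, hvs, h => by
    simp only [famCheck, Bool.and_eq_true, decide_eq_true_eq] at h
    obtain ⟨⟨h1, h2, h3, h4, h5⟩, hrest⟩ := h
    obtain ⟨hg, hs, hc⟩ := hvs v List.mem_cons_self
    refine ⟨fits_of_check S prev v s hprev hg hs hc h1 h2 h3 h4 h5, ?_⟩
    have := allFit_of_check S vs ss (prev ++ [v]) (fun f hf => by
      rcases List.mem_append.mp hf with hf | hf
      · exact hprev f hf
      · rw [List.mem_singleton.mp hf]; exact ⟨hg, hs⟩)
      (fun w hw => hvs w (List.mem_cons_of_mem _ hw)) hrest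
    simpa using this

/-- A decomposition of a family: the constituents with their signs. -/
structure Decomp (S : Setting K G) (F : Fam K) (st : List (List ℤ)) where
  /-- the constituents other than the trivial character, with signs -/
  l : List (IrrCharacter G × ℤ)
  real : Realized (oneChar G) (F.vs.map (coefZ S)) st l

theorem exists_decomp (S : Setting K G) (F : Fam K) :
    ∃ st ∈ enum F.specs, Nonempty (Decomp S F st) := by
  obtain ⟨st, hst, l, hl⟩ := enum_sound (oneChar G) F.specs (F.vs.map (coefZ S))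
    (allFit_of_check S F.vs F.specs [] (by simp)
      (fun v hv => ⟨F.gen v hv, F.sing v hv, F.cls v hv⟩) F.ok)
  exact ⟨st, hst, ⟨⟨l, hl⟩⟩⟩

namespace Decomp

variable {S : Setting K G} {F : Fam K} {st : List (List ℤ)} (D : Decomp S F st)

/-- All constituents with signs, the trivial one first. -/
noncomputable def all : List (IrrCharacter G × ℤ) := (oneChar G, 1) :: D.l

/-- The signed value. -/
noncomputable def sc (g : G) (p : IrrCharacter G × ℤ) : ℂ := (p.2 : ℂ) * (p.1 : G → ℂ) g

/-- The column. -/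
noncomputable def column (p : IrrCharacter G × ℤ) : List ℤ := Rows.col (F.vs.map (coefZ S)) p

theorem map_column : D.all.map (column (S := S) (F := F)) = st := by
  exact D.real.2.2.1.symm

theorem sign_sq {p : IrrCharacter G × ℤ} (hp : p ∈ D.all) : p.2 = 1 ∨ p.2 = -1 := by
  rcases List.mem_cons.mp hp with rfl | hp
  · exact Or.inl rfl
  · exact D.real.1 p hp

omit [DecidableEq K] in
theorem sign_mul_sign {p : IrrCharacter G × ℤ} (hp : p.2 = 1 ∨ p.2 = -1) :
    (p.2 : ℂ) * (p.2 : ℂ) = 1 := by
  rcases hp with e | e <;> simp [e]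

theorem sum_irr (f : IrrCharacter G → ℂ)
    (h0 : ∀ χ, χ ∉ D.all.map Prod.fst → f χ = 0) :
    ∑ χ, f χ = (D.all.map fun p => f p.1).sum := by
  classical
  have hnd : (D.all.map Prod.fst).Nodup := D.real.2.1
  rw [← Finset.sum_subset (Finset.subset_univ (D.all.map Prod.fst).toFinset)
    (fun χ _ hχ => h0 χ (by simpa using hχ)), List.sum_toFinset _ hnd, List.map_map]
  rfl

theorem coef_eq_zero {χ : IrrCharacter G} (h : χ ∉ D.all.map Prod.fst) {v : K → ℤ}
    (hv : v ∈ F.vs) : coefZ S v χ = 0 :=
  D.real.2.2.2 χ h _ (List.mem_map_of_mem hv)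

/-- The linear relations at regular elements. -/
theorem relation {g : G} (hg : g ^ 4 = 1) {i : ℕ} (hi : i < F.vs.length) :
    (D.all.map fun p => (((column (S := S) (F := F) p).getD i 0 : ℤ) : ℂ) * sc g p).sum = 0 := by
  have hv : F.vs[i] ∈ F.vs := List.getElem_mem hi
  have h := S.sum_coef_mul_regular F.vs[i] (F.sing _ hv) hg
  simp only [← coefZ_spec S (F.gen _ hv)] at h
  rw [D.sum_irr _ (fun χ hχ => by rw [D.coef_eq_zero hχ hv]; simp)] at h
  rw [← h]
  refine congrArg List.sum (List.map_congr_left fun p hp => ?_)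
  simp only [column, Rows.col, sc, List.getD_eq_getElem?_getD, List.map_map,
    List.getElem?_map, List.getElem?_eq_getElem hi, Option.map_some, Option.getD_some,
    Function.comp, Int.cast_mul]
  linear_combination ((p.1 : G → ℂ) g * (coefZ S F.vs[i] p.1 : ℂ)) * sign_mul_sign (D.sign_sq hp)

/-- A valuation: the class indicator of `a` as a combination of the family. -/
def IsValuation (F : Fam K) (a : K) (den : ℤ) (A : List ℤ) : Prop :=
  A.length = F.vs.length ∧ den ≠ 0 ∧
    ∀ k : K, dot A (F.vs.map fun v => v k) = den * (transCount a k : ℤ)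

omit [DecidableEq K] in
theorem dot_eq_sum : ∀ (A : List ℤ) (B : List ℤ), A.length = B.length →
    dot A B = ∑ i : Fin A.length, A[i] * B.getD i 0
  | [], [], _ => by simp [dot]
  | a :: A, b :: B, h => by
    show dot (a :: A) (b :: B) =
      ∑ i : Fin (A.length + 1), (a :: A)[(i : ℕ)] * (b :: B).getD i 0
    rw [Fin.sum_univ_succ, dot, dot_eq_sum A B (by simpa using h)]
    simp

/-- The values at three-singular elements. -/
theorem value {a : K} {den : ℤ} {A : List ℤ} (hA : IsValuation F a den A)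
    {p : IrrCharacter G × ℤ} :
    (den : ℂ) * sc (S.φ a) p = ((dot A (column (S := S) (F := F) p) : ℤ) : ℂ) := by
  obtain ⟨hlen, -, hid⟩ := hA
  have h := S.value_eq a den (fun i : Fin A.length => A[i])
    (fun i => F.vs[(i : ℕ)]'(by omega)) (fun k => by
      rw [← hid k, dot_eq_sum _ _ (by simp [hlen])]
      refine Finset.sum_congr rfl fun i _ => ?_
      simp [List.getD_eq_getElem?_getD, List.getElem?_eq_getElem (show (i : ℕ) < F.vs.length by omega)])
    p.1
  rw [show (den : ℂ) * sc (S.φ a) p = (p.2 : ℂ) * ((den : ℂ) * (p.1 : G → ℂ) (S.φ a)) by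
    rw [sc]; ring, h, Finset.mul_sum, dot_eq_sum _ _ (by simp [column, Rows.col, hlen]),
    Int.cast_sum]
  refine Finset.sum_congr rfl fun i _ => ?_
  have hi : (i : ℕ) < F.vs.length := by omega
  rw [← coefZ_spec S (F.gen _ (List.getElem_mem hi))]
  simp only [column, Rows.col, List.getD_eq_getElem?_getD, List.getElem?_map,
    List.getElem?_eq_getElem hi, Option.map_some, Option.getD_some]
  push_cast
  ring

theorem value_outside {a : K} {den : ℤ} {A : List ℤ} (hA : IsValuation F a den A)
    {χ : IrrCharacter G} (hχ : χ ∉ D.all.map Prod.fst) : (χ : G → ℂ) (S.φ a) = 0 := by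
  obtain ⟨hlen, hden, hid⟩ := hA
  have h := S.value_eq a den (fun i : Fin A.length => A[i])
    (fun i => F.vs[(i : ℕ)]'(by omega)) (fun k => by
      rw [← hid k, dot_eq_sum _ _ (by simp [hlen])]
      refine Finset.sum_congr rfl fun i _ => ?_
      simp [List.getD_eq_getElem?_getD, List.getElem?_eq_getElem (show (i : ℕ) < F.vs.length by omega)])
    χ
  rw [Finset.sum_eq_zero (fun i _ => by
    rw [← coefZ_spec S (F.gen _ (List.getElem_mem (by omega))),
      D.coef_eq_zero hχ (List.getElem_mem (by omega))]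
    simp)] at h
  exact (mul_eq_zero.mp h).resolve_left (Int.cast_ne_zero.mpr hden)

theorem value_real {a : K} {den : ℤ} {A : List ℤ} (hA : IsValuation F a den A)
    (p : IrrCharacter G × ℤ) : conj (sc (S.φ a) p) = sc (S.φ a) p := by
  have h := value (S := S) hA (p := p)
  have hden : (den : ℂ) ≠ 0 := Int.cast_ne_zero.mpr hA.2.1
  rw [show sc (S.φ a) p = ((dot A (column (S := S) (F := F) p) : ℤ) : ℂ) / (den : ℂ) by
    rw [← h, mul_div_cancel_left₀ _ hden]]
  simp [map_div₀]

/-- A triple sum localises to the constituents. -/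
theorem triple_sum (g h : G) {c : K} {den : ℤ} {A : List ℤ} (hA : IsValuation F c den A) :
    ∑ χ : IrrCharacter G, (χ : G → ℂ) g * (χ : G → ℂ) h * conj ((χ : G → ℂ) (S.φ c)) /
        (χ : G → ℂ) 1 =
      (D.all.map fun p => sc g p * sc h p * sc (S.φ c) p / sc 1 p).sum := by
  rw [D.sum_irr _ (fun χ hχ => by rw [D.value_outside hA hχ]; simp)]
  refine congrArg List.sum (List.map_congr_left fun p hp => ?_)
  have hr := value_real (S := S) hA p
  simp only [sc, map_mul, map_intCast] at hr
  rcases D.sign_sq hp with e | e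
  · rw [e, Int.cast_one, one_mul, one_mul] at hr
    simp [sc, e, hr]
  · rw [e, Int.cast_neg, Int.cast_one, neg_one_mul, neg_one_mul, neg_inj] at hr
    simp [sc, e, hr, neg_div_neg_eq]

/-- The signed degree. -/
noncomputable def ydeg (p : IrrCharacter G × ℤ) : ℤ := p.2 * (charDegree (p.1 : G → ℂ) : ℤ)

omit [DecidableEq K] in
theorem sc_one (p : IrrCharacter G × ℤ) : sc 1 p = (ydeg p : ℂ) := by
  rw [sc, ydeg, degree_int, Int.cast_mul]

theorem ydeg_ne_zero {p : IrrCharacter G × ℤ} (hp : p ∈ D.all) : ydeg p ≠ 0 := by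
  have := charDegree_pos p.1
  rcases D.sign_sq hp with e | e <;> simp [ydeg, e] <;> omega

/-- The congruence modulo nine. -/
theorem nine_dvd (h9 : Nat.card S.sub3 = 9) (p : IrrCharacter G × ℤ) :
    ∃ m : ℤ, ∑ k : K, (if k ^ 3 = 1 then sc (S.φ k) p else 0) = 9 * (m : ℂ) := by
  obtain ⟨m, hm⟩ := S.exists_nine_mul h9 p.1
  refine ⟨p.2 * m, ?_⟩
  rw [show ∑ k : K, (if k ^ 3 = 1 then sc (S.φ k) p else 0) =
      (p.2 : ℂ) * ∑ k : K, (if k ^ 3 = 1 then (p.1 : G → ℂ) (S.φ k) else 0) by
    rw [Finset.mul_sum]; exact Finset.sum_congr rfl fun k _ => by split_ifs <;> simp [sc], hm]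
  push_cast
  ring

/-- A constituent with signed degree one is a linear character. -/
theorem linear_of_ydeg {p : IrrCharacter G × ℤ} (hp : p ∈ D.all) (h : ydeg p = 1) :
    p.2 = 1 ∧ (p.1 : G → ℂ) 1 = 1 := by
  have hd := charDegree_pos p.1
  rcases D.sign_sq hp with e | e
  · refine ⟨e, ?_⟩
    rw [ydeg, e, one_mul] at h
    rw [degree_int, h, Int.cast_one]
  · rw [ydeg, e] at h
    omega

end Decomp

end CfsgLib.TIThree
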