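import Cfsg.Agent.TIThree.Family
import Cfsg.Agent.TIThree.Linear

/-!
# An automizer inverting the Sylow 3-subgroup
-/

set_option autoImplicit false

namespace CfsgLib.TIThree

open Cfsg CfsgLib.Chars Rows Decomp

universe u

namespace PlusMinus

/-- The four vectors `1 + ε - ψ`. -/
def vec (f : El → Fin 3 → Fin 3) (x : El.pm) : ℤ :=
  1 + El.fixCount (fun y : El.pm => El.act2p (y : El)) x - El.fixCount (fun y : El.pm => f (y : El)) x

theorem act2p_one : ∀ v, El.act2p ((1 : El.pm) : El) v = v := by decide +kernel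

theorem act2p_mul : ∀ x y : El.pm, ∀ v,
    El.act2p ((x * y : El.pm) : El) v = El.act2p (x : El) (El.act2p (y : El) v) := by decide +kernel

/-- The four actions on three points. -/
def acts : Fin 4 → El → Fin 3 → Fin 3 := ![El.act3a, El.act3b, El.act3s, El.act3d]

theorem acts_one : ∀ i, ∀ v, acts i ((1 : El.pm) : El) v = v := by decide +kernel

theorem acts_mul : ∀ i, ∀ x y : El.pm, ∀ v,
    acts i ((x * y : El.pm) : El) v = acts i (x : El) (acts i (y : El) v) := by decide +kernel

theorem isIntGen_vec (i : Fin 4) : IsIntGen El.pm (vec (acts i)) :=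
  (IsIntGen.one.add
    (IsIntGen.fixCount (fun y : El.pm => El.act2p (y : El)) act2p_one act2p_mul)).sub
    (IsIntGen.fixCount (fun y : El.pm => acts i (y : El)) (acts_one i) (acts_mul i))

theorem vec_sing : ∀ i, ∀ k : El.pm, k ^ 4 = 1 → vec (acts i) k = 0 := by decide +kernel

theorem vec_cls : ∀ i, ∀ k h : El.pm, vec (acts i) (h * k * h⁻¹) = vec (acts i) k := by
  decide +kernel

/-- The vectors. -/
def vecs : List (El.pm → ℤ) :=
  [vec (acts 0), vec (acts 1), vec (acts 2), vec (acts 3)]

theorem mem_vecs {v : El.pm → ℤ} (h : v ∈ vecs) : ∃ i, v = vec (acts i) := by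
  simp only [vecs, List.mem_cons, List.not_mem_nil, or_false] at h
  rcases h with rfl | rfl | rfl | rfl
  exacts [⟨0, rfl⟩, ⟨1, rfl⟩, ⟨2, rfl⟩, ⟨3, rfl⟩]

/-- The invariants of the vectors. -/
def specs : List Spec := [⟨1, 3, []⟩, ⟨1, 3, [2]⟩, ⟨1, 3, [2, 2]⟩, ⟨1, 3, [2, 2, 2]⟩]

theorem check : famCheck [] vecs specs = true := by decide +kernel

/-- The family. -/
def fam : Fam El.pm where
  vs := vecs
  specs := specs
  gen := fun v hv => by
    obtain ⟨i, rfl⟩ := mem_vecs hv
    exact isIntGen_vec i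
  sing := fun v hv => by
    obtain ⟨i, rfl⟩ := mem_vecs hv
    exact vec_sing i
  cls := fun v hv => by
    obtain ⟨i, rfl⟩ := mem_vecs hv
    exact vec_cls i
  ok := check

theorem enum_eq : enum specs = [[[1, 1, 1, 1], [1, 0, 0, 0], [0, 1, 0, 0], [0, 0, 1, 0],
    [0, 0, 0, 1], [1, 1, 1, 1]]] := by decide +kernel

/-- The first translation. -/
def ta : El.pm := ⟨⟨1, 0, false, false, false⟩, rfl, rfl⟩

/-- The second translation. -/
def tb : El.pm := ⟨⟨0, 1, false, false, false⟩, rfl, rfl⟩

theorem isVal_ta : IsValuation fam ta 1 [1, -2, 1, 1] :=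
  ⟨rfl, one_ne_zero, by decide +kernel⟩

theorem isVal_tb : IsValuation fam tb 1 [-2, 1, 1, 1] :=
  ⟨rfl, one_ne_zero, by decide +kernel⟩

theorem count_aab : triCount ta ta tb = 0 := by decide +kernel

theorem not_conj : ¬ (IsConj ta ta ∧ IsConj ta⁻¹ tb) := by
  rintro ⟨-, h⟩
  obtain ⟨c, hc⟩ := isConj_iff.mp h
  revert hc
  revert c
  decide +kernel

theorem gen_trans : ∀ x : El.pm, x ^ 3 = 1 → ∃ i j : Fin 3, x = ta ^ (i : ℕ) * tb ^ (j : ℕ) := by
  decide +kernel

theorem index_two : ∀ k l : El.pm, k ^ 3 ≠ 1 → l ^ 3 ≠ 1 → (k⁻¹ * l) ^ 3 = 1 := by decide +kernel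

theorem card_cube : Nat.card {x : El.pm // x ^ 3 = 1} = 9 := by
  rw [Nat.card_eq_fintype_card]
  decide +kernel

theorem arith {x : ℂ} (hy : (1 + x) ≠ 0) (hx : x ≠ 0)
    (h : 1 + 1 / x + 4 / (-(1 + x)) = 0) : x = 1 := by
  field_simp at h
  have : (x - 1) * (x - 1) = 0 := by linear_combination h
  simpa [sub_eq_zero] using this

/-- The normalizer with inverting automizer is the whole group. -/
theorem range_eq_top {G : Type u} [Group G] [Finite G] (S : Setting El.pm G) : S.φ.range = ⊤ := by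
  classical
  haveI := Fintype.ofFinite G
  obtain ⟨st, hst, ⟨D⟩⟩ := exists_decomp S fam
  rw [show fam.specs = specs from rfl, enum_eq, List.mem_singleton] at hst
  subst hst
  have hcols := D.map_column
  simp only [Decomp.all, List.map_cons, List.cons.injEq, List.map_eq_cons_iff,
    List.map_eq_nil_iff] at hcols
  obtain ⟨hc0, p0, l1, hl0, hp0, p1, l2, rfl, hp1, p2, l3, rfl, hp2, p3, l4, rfl, hp3, q, l5,
    rfl, hq, rfl⟩ := hcols
  have hall : D.all = [(oneChar G, 1), p0, p1, p2, p3, q] := by rw [Decomp.all, hl0]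
  have hmem : ∀ p, p ∈ [p0, p1, p2, p3, q] → p ∈ D.all := fun p hp => by
    rw [hall]; exact List.mem_cons_of_mem _ hp
  have hone : ydeg ((oneChar G, (1 : ℤ)) : IrrCharacter G × ℤ) = 1 := by
    rw [ydeg, one_mul, charDegree_eq_of_map_one (n := 1) (by rw [oneChar_apply, Nat.cast_one])]
    rfl
  -- degree relations
  have hrel : ∀ i, i < 4 → ((D.all.map fun p =>
      (((column (S := S) (F := fam) p).getD i 0 : ℤ) : ℂ) * sc 1 p).sum = 0) := fun i hi =>
    D.relation (one_pow 4) (by simpa [fam, vecs] using hi)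
  have r0 := hrel 0 (by norm_num)
  have r1 := hrel 1 (by norm_num)
  have r2 := hrel 2 (by norm_num)
  have r3 := hrel 3 (by norm_num)
  simp only [hall, List.map_cons, List.map_nil, List.sum_cons, List.sum_nil, hc0, hp0, hp1, hp2,
    hp3, hq, sc_one, hone, List.getD_cons_zero, List.getD_cons_succ] at r0 r1 r2 r3
  have e0 : (ydeg p0 : ℂ) = -(1 + (ydeg q : ℂ)) := by push_cast at r0; linear_combination r0
  have e1 : (ydeg p1 : ℂ) = -(1 + (ydeg q : ℂ)) := by push_cast at r1; linear_combination r1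
  have e2 : (ydeg p2 : ℂ) = -(1 + (ydeg q : ℂ)) := by push_cast at r2; linear_combination r2
  have e3 : (ydeg p3 : ℂ) = -(1 + (ydeg q : ℂ)) := by push_cast at r3; linear_combination r3
  have hne : ∀ p, p ∈ [p0, p1, p2, p3, q] → (ydeg p : ℂ) ≠ 0 := fun p hp =>
    Int.cast_ne_zero.mpr (D.ydeg_ne_zero (hmem p hp))
  -- values
  have va : ∀ p, sc (S.φ ta) p = ((dot [1, -2, 1, 1] (column (S := S) (F := fam) p) : ℤ) : ℂ) :=
    fun p => by rw [← value isVal_ta (p := p), Int.cast_one, one_mul]
  have vb : ∀ p, sc (S.φ tb) p = ((dot [-2, 1, 1, 1] (column (S := S) (F := fam) p) : ℤ) : ℂ) :=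
    fun p => by rw [← value isVal_tb (p := p), Int.cast_one, one_mul]
  -- the triangle equation
  have htri := S.triangle_count (a := ta) (b := ta) (c := tb) (by decide +kernel) (by decide +kernel)
    (by decide +kernel) (by decide +kernel) (by decide +kernel) (by decide +kernel) not_conj
  rw [D.triple_sum _ _ isVal_tb, count_aab, Nat.cast_zero, mul_eq_zero] at htri
  have heq := htri.resolve_left natCard_ne_zero
  simp only [hall, List.map_cons, List.map_nil, List.sum_cons, List.sum_nil, va, vb, hc0, hp0, hp1,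
    hp2, hp3, hq, sc_one, hone, dot] at heq
  rw [e0, e1, e2, e3] at heq
  have hq1 : (ydeg q : ℂ) = 1 := by
    refine arith ?_ (hne q (by simp)) ?_
    · have := hne p0 (by simp)
      rw [e0] at this
      exact fun e => this (by rw [e, neg_zero])
    · push_cast at heq
      linear_combination heq
  have hqi : ydeg q = 1 := by exact_mod_cast hq1
  obtain ⟨hsign, hdeg⟩ := D.linear_of_ydeg (hmem q (by simp)) hqi
  have hqne : q.1 ≠ oneChar G := by
    intro e
    have hnd := D.real.2.1
    rw [hl0] at hnd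
    simp [e] at hnd
  have hva : (q.1 : G → ℂ) (S.φ ta) = 1 := by
    have := va q
    rw [sc, hsign, Int.cast_one, one_mul, hq] at this
    simpa [dot] using this
  have hvb : (q.1 : G → ℂ) (S.φ tb) = 1 := by
    have := vb q
    rw [sc, hsign, Int.cast_one, one_mul, hq] at this
    simpa [dot] using this
  obtain ⟨M, hMn, -, hT, hK, -⟩ := S.exists_kernel q.1 hdeg hqne ta tb (fun x hx => by
    obtain ⟨i, j, rfl⟩ := gen_trans x hx
    exact mul_mem (pow_mem (Subgroup.subset_closure (by simp)) _)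
      (pow_mem (Subgroup.subset_closure (by simp)) _)) hva hvb
  exact S.range_eq_top_of_index_two card_cube M hT hK
    index_two

end PlusMinus

end CfsgLib.TIThree
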