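import Cfsg.Agent.TIThree.Setting
import Cfsg.Agent.Coprime.Generation

/-!
# Descending to normal subgroups, and the case of a trivial automizer
-/

set_option autoImplicit false

namespace CfsgLib.TIThree

open Subgroup

universe u

variable {G : Type u} [Group G] [Finite G] {K : Type} [Group K]

namespace Setting

variable (S : Setting K G)

omit [Finite G] in
/-- The image of the translations. -/
def timg : Subgroup G := S.sub3.map S.φ

omit [Finite G] in
theorem mem_timg {g : G} : g ∈ S.timg ↔ ∃ x : K, x ^ 3 = 1 ∧ S.φ x = g := Iff.rfl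

omit [Finite G] in
theorem timg_le_range : S.timg ≤ S.φ.range := Subgroup.map_le_range _ _

omit [Finite G] in
theorem isPGroup_timg : IsPGroup 3 S.timg := fun t => ⟨1, by
  obtain ⟨_, x, hx, rfl⟩ := t
  apply Subtype.ext
  simp only [pow_one, SubmonoidClass.coe_pow, ← map_pow, show x ^ 3 = 1 from hx, map_one,
    OneMemClass.coe_one]⟩

/-- A 3-group containing the translations equals their image. -/
theorem eq_timg {P : Subgroup G} (hP : IsPGroup 3 P) (h : S.timg ≤ P) : P = S.timg := by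
  obtain ⟨g, hg⟩ := S.sylow P hP
  have hle : Nat.card P ≤ Nat.card S.timg := by
    refine Nat.card_le_card_of_injective
      (fun a => ⟨g * a.1 * g⁻¹, by
        obtain ⟨x, hx, e⟩ := hg a.1 a.2
        exact ⟨x, hx, e⟩⟩) fun a b e => Subtype.ext (by simpa using congrArg Subtype.val e)
  exact (Subgroup.eq_of_le_of_card_ge h hle).symm

/-- The image of the translations as a Sylow subgroup. -/
noncomputable def sylowT : Sylow 3 G where
  toSubgroup := S.timg
  isPGroup' := S.isPGroup_timg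
  is_maximal' := fun hQ h => S.eq_timg hQ h

omit [Finite G] in
/-- If every conjugate of the translations lies in the normalizer, the normalizer is everything. -/
theorem range_eq_top_of_conj (h : ∀ g : G, ∀ x : K, x ^ 3 = 1 → g * S.φ x * g⁻¹ ∈ S.φ.range) :
    S.φ.range = ⊤ := by
  refine eq_top_iff.mpr fun g _ => S.norm g fun x hx => ?_
  obtain ⟨y, hy⟩ := h g x hx
  exact ⟨y, S.inj (by rw [map_pow, hy, conj_pow, ← map_pow, hx, map_one, mul_one, mul_inv_cancel]),
    hy.symm⟩

omit [Finite G] in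
/-- A normal subgroup between the translations and the normalizer. -/
theorem range_eq_top_of_normal (M : Subgroup G) [M.Normal]
    (hT : ∀ x : K, x ^ 3 = 1 → S.φ x ∈ M) (hM : M ≤ S.φ.range) : S.φ.range = ⊤ :=
  S.range_eq_top_of_conj fun g x hx => hM (Normal.conj_mem inferInstance _ (hT x hx) g)

variable (M : Subgroup G) [M.Normal]

/-- Three-subgroups of a normal subgroup are conjugate inside it into the translations. -/
theorem exists_conj_mem (hT : ∀ x : K, x ^ 3 = 1 → S.φ x ∈ M) (P : Subgroup G) (hPM : P ≤ M)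
    (hP : IsPGroup 3 P) :
    ∃ g ∈ M, ∀ a ∈ P, ∃ x : K, x ^ 3 = 1 ∧ S.φ x = g * a * g⁻¹ := by
  haveI : Fact (Nat.Prime 3) := ⟨Nat.prime_three⟩
  have hTM : S.timg ≤ M := by
    rintro _ ⟨x, hx, rfl⟩
    exact hT x hx
  obtain ⟨Q, hQ⟩ := (hP.comap_of_injective M.subtype Subtype.val_injective).exists_le_sylow
  obtain ⟨Q0, hQ0⟩ :=
    (S.isPGroup_timg.comap_of_injective M.subtype Subtype.val_injective).exists_le_sylow
  obtain ⟨m, hm⟩ := MulAction.exists_smul_eq M Q Q0
  have h0 : (Q0 : Subgroup M).map M.subtype = S.timg :=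
    S.eq_timg (Q0.isPGroup'.map _) fun t ht => ⟨⟨t, hTM ht⟩, hQ0 ht, rfl⟩
  refine ⟨m, m.2, fun a ha => ?_⟩
  have : MulAut.conj m ⟨a, hPM ha⟩ ∈ (Q0 : Subgroup M) := by
    rw [← hm]
    exact Subgroup.smul_mem_pointwise_smul _ (MulAut.conj m) _ (hQ (show a ∈ P from ha))
  have h1 : (m : G) * a * (m : G)⁻¹ ∈ (Q0 : Subgroup M).map M.subtype := ⟨_, this, rfl⟩
  rw [h0] at h1
  exact S.mem_timg.mp h1

/-- The Frattini argument. -/
theorem eq_top_of_range_le (hK : ∀ k : K, S.φ k ∈ M) : M = ⊤ := by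
  refine eq_top_iff.mpr fun g _ => ?_
  obtain ⟨m, hm, hmP⟩ := S.exists_conj_mem M (fun x _ => hK x) (S.timg.map (MulAut.conj g).toMonoidHom)
    (by
      rintro _ ⟨_, ⟨x, -, rfl⟩, rfl⟩
      exact Normal.conj_mem inferInstance _ (hK x) g)
    (S.isPGroup_timg.map _)
  have : m * g ∈ S.φ.range := S.norm _ fun x hx => by
    obtain ⟨y, hy, e⟩ := hmP _ ⟨S.φ x, ⟨x, hx, rfl⟩, rfl⟩
    refine ⟨y, hy, ?_⟩
    rw [e]
    simp [mul_assoc]
  obtain ⟨k, hk⟩ := this
  have : g = m⁻¹ * S.φ k := by rw [hk]; group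
  rw [this]
  exact mul_mem (inv_mem hm) (hK k)

/-- The setting of a normal subgroup containing the translations. -/
noncomputable def restrict (K' : Type) [Group K'] (ι : K' →* K) (hι : Function.Injective ι)
    (h3 : ∀ x : K, x ^ 3 = 1 → x ∈ ι.range) (hM : ∀ k : K, S.φ k ∈ M ↔ k ∈ ι.range) :
    Setting K' M where
  φ := (S.φ.comp ι).codRestrict M fun x => (hM _).mpr ⟨x, rfl⟩
  inj := fun x y h => hι (S.inj (congrArg Subtype.val h))
  comm3 := fun x y hx hy => hι (by
    rw [map_mul, map_mul]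
    exact S.comm3 _ _ (by rw [← map_pow, hx, map_one]) (by rw [← map_pow, hy, map_one]))
  pow4 := fun x => hι (by rw [map_pow, map_pow, S.pow4, map_one])
  cent := fun x hx hx1 g hg => by
    obtain ⟨k, hk⟩ := S.cent (ι x) (by rw [← map_pow, hx, map_one])
      (fun e => hx1 (hι (by rw [e, map_one]))) g (congrArg Subtype.val hg)
    obtain ⟨k', rfl⟩ := (hM k).mp (by rw [hk]; exact g.2)
    exact ⟨k', Subtype.ext hk⟩
  norm := fun g hg => by
    obtain ⟨k, hk⟩ := S.norm g fun x hx => by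
      obtain ⟨x', rfl⟩ := h3 x hx
      obtain ⟨y, hy, e⟩ := hg x' (hι (by rw [map_pow, hx, map_one]))
      exact ⟨ι y, by rw [← map_pow, hy, map_one], congrArg Subtype.val e⟩
    obtain ⟨k', rfl⟩ := (hM k).mp (by rw [hk]; exact g.2)
    exact ⟨k', Subtype.ext hk⟩
  sylow := fun P hP => by
    obtain ⟨g, hg, h⟩ := S.exists_conj_mem M (fun x hx => (hM x).mpr (h3 x hx)) (P.map M.subtype)
      (Subgroup.map_subtype_le P) (hP.map _)
    refine ⟨⟨g, hg⟩, fun a ha => ?_⟩
    obtain ⟨x, hx, e⟩ := h a ⟨a, ha, rfl⟩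
    obtain ⟨x', rfl⟩ := h3 x hx
    exact ⟨x', hι (by rw [map_pow, hx, map_one]), Subtype.ext e⟩

theorem restrict_range_le (K' : Type) [Group K'] (ι : K' →* K) (hι : Function.Injective ι)
    (h3 : ∀ x : K, x ^ 3 = 1 → x ∈ ι.range) (hM : ∀ k : K, S.φ k ∈ M ↔ k ∈ ι.range)
    (h : (S.restrict M K' ι hι h3 hM).φ.range = ⊤) : M ≤ S.φ.range := by
  intro g hg
  have : (⟨g, hg⟩ : M) ∈ (S.restrict M K' ι hι h3 hM).φ.range := by rw [h]; trivial
  obtain ⟨x, hx⟩ := this
  exact ⟨ι x, congrArg Subtype.val hx⟩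

omit M in
/-- With trivial automizer the group is its own translations. -/
theorem range_eq_top_of_trans [Fintype K] (hK : ∀ x : K, x ^ 3 = 1) (h9 : Nat.card K = 9) :
    S.φ.range = ⊤ := by
  haveI : Fact (Nat.Prime 3) := ⟨Nat.prime_three⟩
  set P := S.sylowT
  have hPc : ∀ a ∈ (P : Subgroup G), ∀ b ∈ (P : Subgroup G), a * b = b * a := S.tiData.comm
  have hcen : Subgroup.normalizer ((P : Subgroup G) : Set G) ≤
      Subgroup.centralizer ((P : Subgroup G) : Set G) := by
    intro g hg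
    obtain ⟨k, rfl⟩ := S.norm g fun x hx => by
      have := (Subgroup.mem_normalizer_iff.mp hg (S.φ x)).mp ⟨x, hx, rfl⟩
      obtain ⟨y, hy, e⟩ := S.mem_timg.mp this
      exact ⟨y, hy, e.symm⟩
    exact Subgroup.mem_centralizer_iff.mpr fun a ha => hPc a ha _ ⟨k, hK k, rfl⟩
  have hcompl := MonoidHom.ker_transferSylow_isComplement' P hcen
  set W := (MonoidHom.transferSylow P hcen).ker with hW
  have hcW : ¬ 3 ∣ Nat.card W := MonoidHom.not_dvd_card_ker_transferSylow P hcen
  have hcT : Nat.card (P : Subgroup G) = 9 := by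
    show Nat.card (S.sub3.map S.φ : Subgroup G) = 9
    rw [Subgroup.card_map_of_injective S.inj, show S.sub3 = ⊤ from eq_top_iff.mpr fun x _ => hK x,
      Subgroup.card_top, h9]
  have hnc : ¬ IsCyclic (P : Subgroup G) := by
    intro hc
    obtain ⟨g, hg⟩ := hc.exists_ofOrder_eq_natCard
    rw [hcT] at hg
    have h3 : g ^ 3 = 1 := by
      obtain ⟨x, hx, e⟩ := S.mem_timg.mp g.2
      apply Subtype.ext
      rw [SubmonoidClass.coe_pow, ← e, ← map_pow, hx, map_one, OneMemClass.coe_one]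
    have := orderOf_dvd_of_pow_eq_one h3
    rw [hg] at this
    norm_num at this
  have hbot : W ≤ ⊥ := by
    refine CfsgLib.Coprime.le_of_centralizers ⟨⟨fun a b => Subtype.ext (hPc a a.2 b b.2)⟩⟩ hnc
      (fun g _ => by
        rw [Subgroup.normalizer_eq_top]
        trivial) ?_ ?_
    · rw [hcT, show (9 : ℕ) = 3 ^ 2 from rfl]
      exact ((Nat.prime_three.coprime_iff_not_dvd).mpr hcW).pow_left 2
    · rintro a ⟨x, hx, rfl⟩ ha g ⟨hgW, hgC⟩
      have hgT : g ∈ (P : Subgroup G) := by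
        obtain ⟨k, hk⟩ := S.cent x hx (fun e => ha (by rw [e, map_one])) g
          (Subgroup.mem_centralizer_singleton_iff.mp hgC)
        exact ⟨k, hK k, hk⟩
      have := hcompl.disjoint
      rw [Subgroup.disjoint_def] at this
      simpa using this hgW hgT
  have hsup := hcompl.sup_eq_top
  rw [le_bot_iff.mp hbot, bot_sup_eq] at hsup
  exact eq_top_iff.mpr (hsup ▸ S.timg_le_range)

end Setting

end CfsgLib.TIThree
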